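import Cfsg.Agent.BlockLib.KG.NilFus

/-!
# Centric Brauer pairs: the block of `Q C_G(Q)` is nilpotent
-/

set_option autoImplicit false

namespace Cfsg.Agent.BlockLib

open Cfsg Cfsg.Agent.CharLib

universe u v

local notation "C(" P ")" => Subgroup.centralizer (SetLike.coe P)
local notation "N(" P ")" => Subgroup.normalizer (SetLike.coe P)

namespace CA

variable {k : Type v} [Field k] {G : Type u} [Group G] [Fintype G] [Split k G]
variable {p : ℕ} [Fact p.Prime] [CharP k p]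

omit [Split k G] [Fact p.Prime] [CharP k p] in
theorem br_ne_zero_of_le {S₁ S : Subgroup G} (h : S₁ ≤ S) {f : CA k G} (hS : br S f ≠ 0) :
    br S₁ f ≠ 0 := by
  intro h0
  apply hS
  rw [← br_br h, h0, map_zero]

omit [Fintype G] in
theorem cjs_le_of_mem_centralizer {Q Z : Subgroup G} (hZ : Z ≤ Q) {c : G} (hc : c ∈ C(Q)) :
    cjs c Z = Z := by
  ext x
  rw [mem_cjs]
  constructor
  · intro h
    have h5 := (Subgroup.mem_centralizer_iff.mp hc) _ (hZ h)
    have h6 : x = c⁻¹ * x * c := by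
      have : c * (c⁻¹ * x * c) = x * c := by group
      rw [← h5] at this
      exact (mul_right_cancel this).symm
    rw [h6]; exact h
  · intro h
    have h5 := (Subgroup.mem_centralizer_iff.mp hc) _ (hZ h)
    have : c⁻¹ * x * c = x := by rw [mul_assoc, h5]; group
    rw [this]; exact h

/-- If `Z(Q)` is a defect group of `f` in `C_G(Q)`, the `p`-subgroups `R` of `Q C_G(Q)` whose
Brauer map does not kill `f` lie in `Q`. -/
theorem le_of_br_ne_zero_of_centric {Q : Subgroup G} {f : CA k G} (hQf : IsBP p Q f)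
    (hZ : IsDefGrp p C(Q) f (Q ⊓ C(Q))) {R : Subgroup G} (hR : IsPGroup p R)
    (hRL : R ≤ Q ⊔ C(Q)) (hbr : br R f ≠ 0) : R ≤ Q := by
  have hLN : Q ⊔ C(Q) ≤ N(Q) := sup_le Subgroup.le_normalizer (centralizer_le_normalizer' Q)
  have hS : IsPGroup p (Q ⊔ R : Subgroup G) := by
    rw [sup_comm]
    exact IsPGroup.to_sup_of_normal_right' hR hQf.1 (hRL.trans hLN)
  have hbrS : br (Q ⊔ R) f ≠ 0 := by rwa [br_sup_of_mem_supp _ hQf.2.mem.1]
  have h1 : br ((Q ⊔ R) ⊓ C(Q)) f ≠ 0 := br_ne_zero_of_le inf_le_left hbrS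
  obtain ⟨c, hc, h2⟩ := (hZ.br_ne_zero_iff hQf.2 (hS.to_le inf_le_left) inf_le_right).mp h1
  rw [cjs_le_of_mem_centralizer inf_le_left hc] at h2
  intro r hr
  obtain ⟨q, hq, c', hc', hqc⟩ := (GrpAux.mem_sup_iff_of_le_normalizer
    (Subgroup.le_normalizer.trans (normalizer_le_normalizer_centralizer Q))).mp (hRL hr)
  have h3 : c' ∈ (Q ⊔ R) ⊓ C(Q) := by
    refine ⟨?_, hc'⟩
    have : c' = q⁻¹ * r := by rw [← hqc]; group
    rw [this]
    exact Subgroup.mul_mem _ (Subgroup.inv_mem _ (Subgroup.mem_sup_left hq))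
      (Subgroup.mem_sup_right hr)
  rw [← hqc]
  exact Q.mul_mem hq (h2 h3).1

theorem isNilBlk_res_sup {Q : Subgroup G} {f : CA k G} (hQf : IsBP p Q f)
    (hZ : IsDefGrp p C(Q) f (Q ⊓ C(Q))) [Fintype ↥(Q ⊔ C(Q))] [Split k ↥(Q ⊔ C(Q))] :
    IsNilBlk p (res (Q ⊔ C(Q)) f) := by
  have hrel : RelData p Q f (Q ⊔ C(Q)) := ⟨hQf, le_sup_left, le_sup_right,
    sup_le (le_stab_self hQf.2.mem.1) (centralizer_le_stab hQf.2.mem)⟩
  have hf : ext0 (Q ⊔ C(Q)) (res (Q ⊔ C(Q)) f) = f := ext0_res _ hrel.isBlk.mem.1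
  refine ⟨isBlk_res _ hrel.isBlk, fun R' h' hR' x' hx' hreg => ?_⟩
  have hbr : br (up (Q ⊔ C(Q)) R') f ≠ 0 := by
    intro h0
    apply hR'.br_ne_zero
    apply ext0_injective (Q ⊔ C(Q))
    rw [ext0_br, hf, h0, map_zero]
  have hRQ := le_of_br_ne_zero_of_centric hQf hZ (isPGroup_up_iff.mpr hR'.1.1) (up_le R') hbr
  obtain ⟨q, hq, c, hc, hqc⟩ := (GrpAux.mem_sup_iff_of_le_normalizer
    (Subgroup.le_normalizer.trans (normalizer_le_normalizer_centralizer Q))).mp x'.2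
  obtain ⟨a, ha⟩ := hQf.1 ⟨q, hq⟩
  have ha' : q ^ (p ^ a) = 1 := congrArg Subtype.val ha
  apply coe_mem_centralizer_up.mp
  refine GrpAux.mem_centralizer_of_conj_eq (coe_mem_normalizer_up.mpr hx'.1)
    (by rwa [Subgroup.orderOf_coe]) ha' (fun r hr => ?_)
  apply conj_eq_of_inv_mul_mem (Q := up (Q ⊔ C(Q)) R') _ hr
  rw [← hqc]
  simpa using Subgroup.centralizer_le hRQ hc

/-- If `G = N_G(Q, f)` then `f` is the block of which `(Q, f)` is a Brauer pair. -/
theorem IsBPOf.eq_of_stab_eq_top {b f : CA k G} {Q : Subgroup G} (h : IsBPOf p b Q f)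
    (hs : stab Q f = ⊤) : b = f := by
  have hN : (⊤ : Subgroup G) ≤ N(Q) := hs ▸ stab_le_normalizer Q f
  have hf : IsBlk ⊤ f := h.1.isBlk_of_le' le_top le_top (by rw [hs])
  have hb := idem_mem_supp_centralizer h.1.1 le_top hN h.2.1.mem h.2.1.idem
  have h1 := h.2.2
  rw [br_eq_self hb] at h1
  exact h.2.1.eq_of_mul_ne_zero hf (by rw [h1]; exact hf.ne_zero)

end CA

end Cfsg.Agent.BlockLib
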