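import Cfsg.Agent.BlockLib.KG.Index

/-!
# Dictionary between Brauer pairs of the group `↥H` and Brauer pairs of `G`
(for pairs whose centralizer lies in `H`), and relative versions of the main theorems
-/

set_option autoImplicit false

namespace Cfsg.Agent.BlockLib

namespace CA

universe u v

local notation "C(" P ")" => Subgroup.centralizer (SetLike.coe P)
local notation "N(" P ")" => Subgroup.normalizer (SetLike.coe P)
local notation "Ce(" g ")" => Subgroup.centralizer (Singleton.singleton g : Set _)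

variable {k : Type v} [Field k] {G : Type u} [Group G] [Fintype G] (H : Subgroup G) [Fintype H]

/-- A splitting field for `G` is one for its subgroups. -/
theorem split_subgroup [Split k G] : Split k H where
  dec K := by
    classical
    obtain ⟨s, hs, hsum⟩ := Split.dec (k := k) (up H K)
    have hsH : ∀ ε ∈ s, ext0 H (res H ε) = ε := fun ε hε =>
      ext0_res H (supp_mono (up_le K) (hs ε hε).mem.1)
    refine ⟨s.image (res H), ?_, ?_⟩
    · intro a ha
      obtain ⟨ε, hε, rfl⟩ := Finset.mem_image.mp ha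
      rw [← isBlk_ext0_up_iff H, hsH ε hε]
      exact hs ε hε
    · apply ext0_injective H
      rw [map_sum, map_one, Finset.sum_image, ← hsum]
      · exact Finset.sum_congr rfl hsH
      · intro a ha b hb hab
        rw [← hsH a ha, ← hsH b hb, hab]
  split K ε hε z hz := by
    obtain ⟨c, n, hn⟩ := Split.split (up H K) (ext0 H ε) ((isBlk_ext0_up_iff H).mpr hε)
      (ext0 H z) ((ext0_mem_cen_up_iff H).mpr hz)
    refine ⟨c, n, ?_⟩
    apply ext0_injective H
    rw [map_pow, map_sub, map_mul, map_smul, hn, map_zero]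

variable {p : ℕ}

theorem isBP_up_iff {R : Subgroup H} {a : CA k H} (hC : C(up H R) ≤ H) :
    IsBP p (up H R) (ext0 H a) ↔ IsBP p R a := by
  unfold IsBP
  rw [isPGroup_up_iff, ← isBlk_ext0_up_iff H (K := C(R)), up_centralizer, inf_eq_right.mpr hC]

omit [Fintype G] [Fintype H] in
theorem up_le_normalizer_iff {P Q : Subgroup H} : up H P ≤ N(up H Q) ↔ P ≤ N(Q) := by
  rw [← up_le_up (H := H), up_normalizer, le_inf_iff]
  exact ⟨fun h => ⟨up_le P, h⟩, fun h => h.2⟩

theorem nsub_up_iff {Q P : Subgroup H} {f e : CA k H} (hC : C(up H Q) ≤ H) :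
    NSub p (up H Q) (ext0 H f) (up H P) (ext0 H e) ↔ NSub p Q f P e := by
  unfold NSub
  have key : ∀ hQP : Q ≤ P, C(up H P) ≤ H := fun hQP =>
    (Subgroup.centralizer_le (up_le_up.mpr hQP)).trans hC
  have hbr : br (up H P) (ext0 H f) * ext0 H e = ext0 H e ↔ br P f * e = e := by
    rw [← ext0_br, ← map_mul]
    exact (ext0_injective H).eq_iff
  constructor
  · rintro ⟨h1, h2, h3, h4, h5, h6⟩
    have hQP := up_le_up.mp h3
    exact ⟨(isBP_up_iff H hC).mp h1, (isBP_up_iff H (key hQP)).mp h2, hQP,
      (up_le_normalizer_iff H).mp h4, (ext0_mem_fix_up_iff H).mp h5, hbr.mp h6⟩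
  · rintro ⟨h1, h2, h3, h4, h5, h6⟩
    exact ⟨(isBP_up_iff H hC).mpr h1, (isBP_up_iff H (key h3)).mpr h2, up_le_up.mpr h3,
      (up_le_normalizer_iff H).mpr h4, (ext0_mem_fix_up_iff H).mpr h5, hbr.mpr h6⟩

theorem subLE_up {a b : Subgroup H × CA k H} (h : SubLE p a b) (hC : C(up H a.1) ≤ H) :
    SubLE p (up H a.1, ext0 H a.2) (up H b.1, ext0 H b.2) := by
  induction h using Relation.ReflTransGen.head_induction_on with
  | refl => exact Relation.ReflTransGen.refl
  | @head a c h1 _ ih =>
    refine Relation.ReflTransGen.head ((nsub_up_iff H hC).mpr h1) (ih ?_)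
    exact (Subgroup.centralizer_le (up_le_up.mpr h1.2.2.1)).trans hC

theorem subLE_dn {a b : Subgroup G × CA k G} (h : SubLE p a b) (hC : C(a.1) ≤ H)
    (hb : b.1 ≤ H) :
    SubLE p (a.1.subgroupOf H, res H a.2) (b.1.subgroupOf H, res H b.2) := by
  induction h using Relation.ReflTransGen.head_induction_on with
  | refl => exact Relation.ReflTransGen.refl
  | @head a c h1 h2 ih =>
    have hcH : c.1 ≤ H := (SubLE.le h2).trans hb
    have haH : a.1 ≤ H := h1.2.2.1.trans hcH
    have hCc : C(c.1) ≤ H := (Subgroup.centralizer_le h1.2.2.1).trans hC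
    refine Relation.ReflTransGen.head ?_ (ih hCc)
    show NSub p (a.1.subgroupOf H) (res H a.2) (c.1.subgroupOf H) (res H c.2)
    rw [← nsub_up_iff H (by rw [up_subgroupOf haH]; exact hC), up_subgroupOf haH,
      up_subgroupOf hcH, ext0_res H (supp_mono hC h1.1.2.mem.1),
      ext0_res H (supp_mono hCc h1.2.1.2.mem.1)]
    exact h1

end CA

end Cfsg.Agent.BlockLib
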