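import Cfsg.Agent.BlockLib.KG.DefSubTr
import Cfsg.Prelude.Def_BlockFusion

/-!
# The fusion system of a block: translation of its maps
-/

set_option autoImplicit false

namespace Cfsg.Agent.BlockLib

open Cfsg Cfsg.Agent.CharLib

universe u

variable {M : Ideal AlgInt} [M.IsPrime] {G : Type u} [Group G] [Fintype G]

local notation "C(" P ")" => Subgroup.centralizer (SetLike.coe P)
local notation "N(" P ")" => Subgroup.normalizer (SetLike.coe P)

variable {p : ℕ} [Fact p.Prime] [CharP (ResField M) p]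

/-- The maps of the fusion system of a block with source `Q`, where `(Q, f) ≤ (P, e)`. -/
theorem mem_hom_iff {B : Set (IrrCharacter G)} {P : Subgroup G} {e : Set (IrrCharacter C(P))}
    {F : FusionSystem P} (hF : IsBlockFusionSystemOn p M B P e F) {Q : Subgroup G}
    {f : Set (IrrCharacter C(Q))} (hf : IsPBlock M f) (hle : SubpairLE p M Q f P e)
    (φ : Q →* G) :
    φ ∈ F.Hom Q ↔ ∃ g : G, (∀ u : Q, φ u = g * (u : G) * g⁻¹) ∧
      CA.SubLE p (CA.cjs g Q, CA.cj g (epsS M C(Q) f)) (P, epsS M C(P) e) := by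
  have he : IsPBlock M e := hF.1.1.1.2
  have hB : IsPBlock M B := hF.1.1.2.1
  have hPe : CA.IsBP p P (epsS M C(P) e) := ((isMaximalBrauerPair_iff hB he).mp hF.1).1.1
  have hle' := (subpairLE_iff hf he).mp hle
  rw [hF.2]
  constructor
  · rintro ⟨-, g, hg, -, f', h1, h2⟩
    refine ⟨g, hg, ?_⟩
    have h1' : CA.SubLE p (Q, epsS M C(Q) f') (P, epsS M C(P) e) := subLE_of_subpairLE h1
    have h2' : CA.SubLE p (CA.cjs g Q, epsS M _ (conjBlock Q g f')) (P, epsS M C(P) e) :=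
      subLE_of_subpairLE h2
    rw [epsS_conjBlock, CA.SubLE.unique hPe h1' hle'] at h2'
    exact h2'
  · rintro ⟨g, hg, h⟩
    refine ⟨hle'.le, g, hg, h.le, f, hle, ?_⟩
    rw [subpairLE_iff (isPBlock_conjBlock g hf) he, epsS_conjBlock]
    exact h

theorem isConj_iff {B : Set (IrrCharacter G)} {P : Subgroup G} {e : Set (IrrCharacter C(P))}
    {F : FusionSystem P} (hF : IsBlockFusionSystemOn p M B P e F) {Q : Subgroup G}
    {f : Set (IrrCharacter C(Q))} (hf : IsPBlock M f) (hle : SubpairLE p M Q f P e)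
    (Q' : Subgroup G) :
    F.IsConj Q Q' ↔ ∃ g : G, Q' = CA.cjs g Q ∧
      CA.SubLE p (CA.cjs g Q, CA.cj g (epsS M C(Q) f)) (P, epsS M C(P) e) := by
  unfold FusionSystem.IsConj
  constructor
  · rintro ⟨φ, hφ, rfl⟩
    obtain ⟨g, hg, h⟩ := (mem_hom_iff hF hf hle φ).mp hφ
    refine ⟨g, ?_, h⟩
    ext x
    constructor
    · rintro ⟨u, rfl⟩
      exact ⟨u, u.2, (hg u).symm⟩
    · rintro ⟨u, hu, rfl⟩
      exact ⟨⟨u, hu⟩, hg ⟨u, hu⟩⟩
  · rintro ⟨g, rfl, h⟩
    refine ⟨conjHom Q g, (mem_hom_iff hF hf hle _).mpr ⟨g, fun u => rfl, h⟩, ?_⟩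
    ext x
    constructor
    · rintro ⟨u, rfl⟩
      exact ⟨u, u.2, rfl⟩
    · rintro ⟨u, hu, rfl⟩
      exact ⟨⟨u, hu⟩, rfl⟩

end Cfsg.Agent.BlockLib
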