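import Cfsg.Agent.BlockLib.KG.GradedAux
import Cfsg.Agent.BlockLib.KG.Centric

/-!
# Blocks covering a stable block of a normal subgroup: the Brauer map does not kill them

The group algebra `kG` is graded by `G / N`.  For a `G`-stable block `d` of `N` and a `p`-subgroup
`Q ≤ N` with `Br_Q(d) ≠ 0`, a central idempotent `ε` of `kG` with `ε d = ε` and `Br_Q(ε) = 0`
vanishes.
-/

set_option autoImplicit false

namespace Cfsg.Agent.BlockLib

namespace CA

universe u v

local notation "C(" P ")" => Subgroup.centralizer (SetLike.coe P)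
local notation "N(" P ")" => Subgroup.normalizer (SetLike.coe P)

section grading

variable {k : Type v} [Field k] {G : Type u} [Group G] [Fintype G]
variable (N : Subgroup G) [N.Normal]

/-- `a` is supported on the coset `t` of `N`. -/
def HasDeg (t : G ⧸ N) (a : CA k G) : Prop := ∀ g : G, (g : G ⧸ N) ≠ t → a g = 0

open Classical in
/-- The component of `a` on the coset `t`. -/
noncomputable def comp (t : G ⧸ N) (a : CA k G) : CA k G :=
  ofFun fun g => if (g : G ⧸ N) = t then a g else 0

variable {N}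

theorem comp_apply_of_eq {t : G ⧸ N} (a : CA k G) {g : G} (h : (g : G ⧸ N) = t) :
    comp N t a g = a g := by
  classical
  show (if (g : G ⧸ N) = t then a g else 0) = a g
  rw [if_pos h]

theorem comp_apply_of_ne {t : G ⧸ N} (a : CA k G) {g : G} (h : (g : G ⧸ N) ≠ t) :
    comp N t a g = 0 := by
  classical
  show (if (g : G ⧸ N) = t then a g else 0) = 0
  rw [if_neg h]

theorem hasDeg_comp (t : G ⧸ N) (a : CA k G) : HasDeg N t (comp N t a) :=
  fun _ hg => comp_apply_of_ne a hg

theorem sum_comp [Fintype (G ⧸ N)] (a : CA k G) : ∑ t : G ⧸ N, comp N t a = a := by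
  classical
  ext g
  rw [sum_apply, Finset.sum_eq_single (g : G ⧸ N)]
  · exact comp_apply_of_eq a rfl
  · intro t _ ht
    exact comp_apply_of_ne a (Ne.symm ht)
  · intro h
    exact absurd (Finset.mem_univ _) h

theorem HasDeg.mul {s t : G ⧸ N} {a b : CA k G} (ha : HasDeg N s a) (hb : HasDeg N t b) :
    HasDeg N (s * t) (a * b) := by
  intro x hx
  rw [mul_apply]
  refine Finset.sum_eq_zero fun h _ => ?_
  by_cases h1 : (h : G ⧸ N) = s
  · have h2 : ((h⁻¹ * x : G) : G ⧸ N) ≠ t := by
      intro h3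
      apply hx
      rw [← h1, ← h3, ← QuotientGroup.mk_mul, mul_inv_cancel_left]
    rw [hb _ h2, mul_zero]
  · rw [ha _ h1, zero_mul]

theorem hasDeg_one_iff {a : CA k G} : HasDeg N 1 a ↔ a ∈ supp N := by
  constructor
  · intro h g hg
    exact h g (fun h1 => hg ((QuotientGroup.eq_one_iff g).mp h1))
  · intro h g hg
    exact h g (fun h1 => hg ((QuotientGroup.eq_one_iff g).mpr h1))

theorem hasDeg_one_one : HasDeg N 1 (1 : CA k G) := hasDeg_one_iff.mpr (Subalgebra.one_mem _)

theorem comp_mem_fix {a : CA k G} (ha : a ∈ fix N) (t : G ⧸ N) : comp N t a ∈ fix N := by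
  rw [mem_fix] at ha ⊢
  intro u hu g
  have h1 : ((u * g * u⁻¹ : G) : G ⧸ N) = (g : G ⧸ N) := by
    rw [QuotientGroup.mk_mul, QuotientGroup.mk_mul, QuotientGroup.mk_inv,
      (QuotientGroup.eq_one_iff u).mpr hu]
    simp
  by_cases h : (g : G ⧸ N) = t
  · rw [comp_apply_of_eq a h, comp_apply_of_eq a (h1.trans h), ha u hu]
  · rw [comp_apply_of_ne a h, comp_apply_of_ne a (fun h2 => h (h1.symm.trans h2))]

theorem br_comp (Q : Subgroup G) (t : G ⧸ N) (a : CA k G) :
    br Q (comp N t a) = comp N t (br Q a) := by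
  ext g
  by_cases h : (g : G ⧸ N) = t
  · rw [comp_apply_of_eq _ h]
    by_cases hg : g ∈ C(Q)
    · rw [br_apply_of_mem _ hg, br_apply_of_mem _ hg, comp_apply_of_eq _ h]
    · rw [br_apply_of_not_mem _ hg, br_apply_of_not_mem _ hg]
  · rw [comp_apply_of_ne _ h]
    by_cases hg : g ∈ C(Q)
    · rw [br_apply_of_mem _ hg, comp_apply_of_ne _ h]
    · rw [br_apply_of_not_mem _ hg]

theorem comp_zero (t : G ⧸ N) : comp N t (0 : CA k G) = 0 := by
  ext g
  by_cases h : (g : G ⧸ N) = t
  · rw [comp_apply_of_eq _ h]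
  · rw [comp_apply_of_ne _ h, zero_apply]

/-- The degree of a product of homogeneous elements. -/
theorem hasDeg_list_prod (l : List ((G ⧸ N) × CA k G)) (h : ∀ x ∈ l, HasDeg N x.1 x.2) :
    HasDeg N (l.map Prod.fst).prod (l.map Prod.snd).prod := by
  induction l with
  | nil => simpa using hasDeg_one_one
  | cons x l ih =>
    simp only [List.map_cons, List.prod_cons]
    exact (h x (List.mem_cons_self)).mul (ih fun y hy => h y (List.mem_cons_of_mem _ hy))

end grading

section main

open scoped Pointwise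

variable {k : Type v} [Field k] {G : Type u} [Group G] [Fintype G] [Split k G]
variable {p : ℕ} [Fact p.Prime] [CharP k p]

theorem lam_eq_zero_of_br_eq_zero {H Q : Subgroup G} {d y : CA k G} (hd : IsBlk H d)
    (hQ : IsPGroup p Q) (hQH : Q ≤ H) (hbr : br Q d ≠ 0) (hy : y ∈ cen H) (hy0 : br Q y = 0) :
    lam H d y = 0 := by
  by_contra hne
  obtain ⟨w, hw, h⟩ := exists_inv_of_lam_ne_zero hd hy hne
  apply hbr
  rw [← h, mul_assoc, br_mul hQ (fix_anti hQH hy.2)
    (fix_anti hQH (Subalgebra.mul_mem _ hw hd.mem).2), hy0, zero_mul]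

/-- The space of nilpotent elements of the centre of `kN`. -/
noncomputable def nilCen (N : Subgroup G) : Submodule k (CA k G) where
  carrier := {z | z ∈ cen N ∧ IsNilpotent z}
  add_mem' := by
    rintro a b ⟨ha, ha'⟩ ⟨hb, hb'⟩
    exact ⟨Subalgebra.add_mem _ ha hb, Commute.isNilpotent_add (cen_comm ha hb) ha' hb'⟩
  zero_mem' := ⟨Subalgebra.zero_mem _, IsNilpotent.zero⟩
  smul_mem' := by
    rintro c a ⟨ha, ha'⟩
    exact ⟨Subalgebra.smul_mem _ ha c, ha'.smul c⟩

/-- **Key lemma.**  Let `d` be a block of the normal subgroup `N`, and `Q ≤ N` a `p`-subgroup with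
`Br_Q(d) ≠ 0`.  A central idempotent `ε` of `kG` with `ε d = ε` and `Br_Q(ε) = 0` vanishes. -/
theorem eq_zero_of_br_eq_zero {N : Subgroup G} [hN : N.Normal] {d ε : CA k G} (hd : IsBlk N d)
    (hε : ε ∈ cen (⊤ : Subgroup G)) (hεε : ε * ε = ε) (hεd : ε * d = ε) {Q : Subgroup G}
    (hQ : IsPGroup p Q) (hQN : Q ≤ N) (hbr : br Q d ≠ 0) (h0 : br Q ε = 0) : ε = 0 := by
  classical
  haveI : Fintype (G ⧸ N) := Fintype.ofFinite _
  have hcomm : ∀ a : CA k G, ε * a = a * ε := fun a =>
    commute_of_fix_of_supp hε.2 (mem_supp_top a)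
  set W : Submodule k (CA k G) := LinearMap.range (LinearMap.mulLeft k ε) with hWdef
  have hW : ∀ w ∈ W, ε * w = w := by
    rintro _ ⟨a, rfl⟩
    show ε * (ε * a) = ε * a
    rw [← mul_assoc, hεε]
  have hWd : ∀ w ∈ W, d * w = w := by
    intro w hw
    rw [← hW w hw, ← mul_assoc, ← hcomm d, hεd]
  have hWmul : ∀ u : CA k G, ∀ w ∈ W, u * w ∈ W := by
    rintro u _ ⟨a, rfl⟩
    refine ⟨u * a, ?_⟩
    show ε * (u * a) = u * (ε * a)
    rw [← mul_assoc, hcomm u, mul_assoc]
  have hJcj : ∀ g : G, ∀ z ∈ nilCen (k := k) N, cj g z ∈ nilCen (k := k) N := by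
    rintro g z ⟨hz, hz'⟩
    refine ⟨?_, hz'.map (cj g)⟩
    have := cj_mem_cen g hz
    rwa [cjs_eq_of_mem_normalizer (by rw [Subgroup.normalizer_eq_top]; trivial)] at this
  have hJWof : ∀ g : G, ∀ x ∈ nilCen (k := k) N * W, of g * x ∈ nilCen (k := k) N * W := by
    intro g x hx
    induction hx using Submodule.mul_induction_on' with
    | mem_mul_mem z hz w hw =>
      have : of g * (z * w) = cj g z * (of g * w) := by
        rw [cj_def]
        simp only [mul_assoc]
        rw [← mul_assoc (of g⁻¹) (of g) w, of_mul_of, inv_mul_cancel, of_one, one_mul]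
      rw [this]
      exact Submodule.mul_mem_mul (hJcj g z hz) (hWmul _ w hw)
    | add x _ y _ hx hy =>
      rw [mul_add]
      exact Submodule.add_mem _ hx hy
  have hJW : ∀ u : CA k G, ∀ x ∈ nilCen (k := k) N * W, u * x ∈ nilCen (k := k) N * W := by
    intro u x hx
    rw [eq_sum_of u, Finset.sum_mul]
    refine Submodule.sum_mem _ fun g _ => ?_
    rw [smul_mul_assoc]
    exact Submodule.smul_mem _ _ (hJWof g x hx)
  have key : W ≤ nilCen (k := k) N * W := by
    intro w hw
    set n := Fintype.card (G ⧸ N) with hn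
    have hpw : ε ^ n * w = w := by
      have : ∀ j : ℕ, ε ^ j * w = w := by
        intro j
        induction j with
        | zero => simp
        | succ j ih => rw [pow_succ, mul_assoc, hW w hw, ih]
      exact this n
    set S : Set (CA k G) := Set.range (fun t : G ⧸ N => comp N t ε) with hS
    have hεS : ε ∈ Submodule.span k S := by
      rw [← sum_comp (N := N) ε]
      exact Submodule.sum_mem _ fun t _ => Submodule.subset_span ⟨t, rfl⟩
    have h1 : ε ^ n ∈ Submodule.span k (S ^ n) := by
      rw [← Submodule.span_pow]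
      exact Submodule.pow_mem_pow _ hεS n
    have h2 : Submodule.span k (S ^ n) ≤
        (nilCen (k := k) N * W).comap (LinearMap.mulRight k w) := by
      rw [Submodule.span_le]
      intro b hb
      obtain ⟨f, rfl⟩ := Set.mem_pow.mp hb
      have hf : ∀ i, ∃ t : G ⧸ N, comp N t ε = (f i : CA k G) := fun i => (f i).2
      choose t ht using hf
      set l : List ((G ⧸ N) × CA k G) := List.ofFn (fun i => (t i, (f i : CA k G))) with hl
      have hlmem : ∀ x ∈ l, x.2 = comp N x.1 ε := by
        intro x hx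
        obtain ⟨i, rfl⟩ := (List.mem_ofFn' _ _).mp hx
        exact (ht i).symm
      have hlprod : (List.ofFn fun i => (f i : CA k G)).prod = (l.map Prod.snd).prod := by
        rw [hl, List.map_ofFn]
        rfl
      obtain ⟨l₁, l₂, l₃, hl123, hne, hdeg⟩ := GradedAux.exists_block Prod.fst l
        (by rw [hl, List.length_ofFn])
      have hmem₂ : ∀ x ∈ l₂, x.2 = comp N x.1 ε := fun x hx =>
        hlmem x (by rw [hl123]; simp [hx])
      set y := (l₂.map Prod.snd).prod with hy
      have hy1 : y ∈ supp N := by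
        rw [← hasDeg_one_iff, ← hdeg]
        exact hasDeg_list_prod l₂ fun x hx => by rw [hmem₂ x hx]; exact hasDeg_comp _ _
      have hfixN : ε ∈ fix N := fix_anti le_top hε.2
      have hy2 : y ∈ fix N := by
        apply Subalgebra.list_prod_mem
        intro a ha
        obtain ⟨x, hx, rfl⟩ := List.mem_map.mp ha
        rw [hmem₂ x hx]
        exact comp_mem_fix hfixN _
      have hy3 : br Q y = 0 := by
        obtain ⟨x, l', rfl⟩ := List.exists_cons_of_ne_nil hne
        rw [hy, List.map_cons, List.prod_cons, br_mul hQ, hmem₂ x (List.mem_cons_self), br_comp, h0,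
          comp_zero, zero_mul]
        · rw [hmem₂ x (List.mem_cons_self)]
          exact fix_anti hQN (comp_mem_fix hfixN _)
        · apply Subalgebra.list_prod_mem
          intro a ha
          obtain ⟨x', hx', rfl⟩ := List.mem_map.mp ha
          rw [hmem₂ x' (List.mem_cons_of_mem _ hx')]
          exact fix_anti hQN (comp_mem_fix hfixN _)
      have hyd : y * d ∈ nilCen (k := k) N :=
        ⟨Subalgebra.mul_mem _ ⟨hy1, hy2⟩ hd.mem, isNilpotent_of_lam_eq_zero hd ⟨hy1, hy2⟩
          (lam_eq_zero_of_br_eq_zero hd hQ hQN hbr ⟨hy1, hy2⟩ hy3)⟩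
      show (List.ofFn fun i => (f i : CA k G)).prod * w ∈ nilCen (k := k) N * W
      rw [hlprod, hl123, List.map_append, List.map_append, List.prod_append, List.prod_append,
        mul_assoc, mul_assoc]
      apply hJW
      have hvw := hWmul (l₃.map Prod.snd).prod w hw
      rw [← hWd _ hvw, ← mul_assoc]
      exact Submodule.mul_mem_mul hyd hvw
    have h3 := h2 h1
    rw [Submodule.mem_comap] at h3
    have h4 : LinearMap.mulRight k w (ε ^ n) = w := hpw
    rwa [h4] at h3
  have hbot := GradedAux.nak (nilCen (k := k) N) W (fun z hz => hz.2)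
    (fun z hz z' hz' => cen_comm hz.1 hz'.1) (fun z _ w hw => hWmul z w hw) key
  have hεW : ε ∈ W := ⟨ε, hεε⟩
  rw [hbot] at hεW
  exact (Submodule.mem_bot k).mp hεW

end main

end CA

end Cfsg.Agent.BlockLib
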