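import Mathlib

/-!
# Two abstract lemmas: a pigeonhole principle for products in a finite group, and a Nakayama type
lemma for commuting nilpotent elements
-/

set_option autoImplicit false

namespace Cfsg.Agent.BlockLib

namespace GradedAux

/-- In a list of length at least `|Γ|`, some nonempty block of consecutive entries has total degree
`1`. -/
theorem exists_block {Γ : Type*} [Group Γ] [Fintype Γ] {α : Type*} (deg : α → Γ) (l : List α)
    (hl : Fintype.card Γ ≤ l.length) :
    ∃ l₁ l₂ l₃ : List α, l = l₁ ++ l₂ ++ l₃ ∧ l₂ ≠ [] ∧ (l₂.map deg).prod = 1 := by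
  let f : Fin (l.length + 1) → Γ := fun j => ((l.take j).map deg).prod
  have hcard : Fintype.card Γ < Fintype.card (Fin (l.length + 1)) := by
    rw [Fintype.card_fin]
    omega
  obtain ⟨i, j, hij, hf⟩ := Fintype.exists_ne_map_eq_of_card_lt f hcard
  wlog hlt : i < j generalizing i j
  · exact this j i hij.symm hf.symm (lt_of_le_of_ne (not_lt.mp hlt) hij.symm)
  have hlt' : (i : ℕ) < j := hlt
  have hj : (j : ℕ) ≤ l.length := Nat.lt_succ_iff.mp j.2
  have h1 : l.take j = l.take i ++ (l.take j).drop i := by
    conv_lhs => rw [← List.take_append_drop i (l.take j)]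
    rw [List.take_take, min_eq_left hlt'.le]
  refine ⟨l.take i, (l.take j).drop i, l.drop j, ?_, ?_, ?_⟩
  · rw [← h1, List.take_append_drop]
  · intro h0
    have := congrArg List.length h0
    simp only [List.length_drop, List.length_take, List.length_nil] at this
    omega
  · have h2 : f j = f i * (((l.take j).drop i).map deg).prod := by
      show ((l.take j).map deg).prod = _
      rw [h1, List.map_append, List.prod_append]
      congr 2
      rw [← h1]
    rw [← hf] at h2
    exact (mul_eq_left.mp h2.symm)

variable {k A : Type*} [Field k] [Ring A] [Algebra k A]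

theorem nak_aux (W : Submodule k A) (s : Finset A) (hnil : ∀ z ∈ s, IsNilpotent z)
    (hcomm : ∀ z ∈ s, ∀ z' ∈ s, Commute z z')
    (hst : ∀ z ∈ s, ∀ w ∈ W, z * w ∈ W)
    (h : W ≤ Submodule.span k (s : Set A) * W) : W = ⊥ := by
  classical
  induction s using Finset.induction_on with
  | empty =>
    simpa using h
  | insert z s' hz ih =>
    apply ih (fun x hx => hnil x (Finset.mem_insert_of_mem hx))
      (fun x hx y hy => hcomm x (Finset.mem_insert_of_mem hx) y (Finset.mem_insert_of_mem hy))
      (fun x hx => hst x (Finset.mem_insert_of_mem hx))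
    set J' := Submodule.span k (s' : Set A) with hJ'
    have hspan : Submodule.span k ((insert z s' : Finset A) : Set A) =
        Submodule.span k {z} ⊔ J' := by
      rw [Finset.coe_insert, Submodule.span_insert]
    rw [hspan, Submodule.sup_mul] at h
    have hzW : Submodule.span k {z} * W ≤ W := by
      rw [Submodule.mul_le]
      intro a ha w hw
      obtain ⟨c, rfl⟩ := Submodule.mem_span_singleton.mp ha
      rw [smul_mul_assoc]
      exact W.smul_mem c (hst z (Finset.mem_insert_self _ _) w hw)
    have hzJ : Submodule.span k {z} * J' = J' * Submodule.span k {z} := by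
      rw [hJ', Submodule.span_mul_span, Submodule.span_mul_span]
      congr 1
      ext x
      simp only [Set.singleton_mul, Set.mul_singleton, Set.mem_image]
      constructor
      · rintro ⟨y, hy, rfl⟩
        exact ⟨y, hy, (hcomm z (Finset.mem_insert_self _ _) y (Finset.mem_insert_of_mem hy)).eq.symm⟩
      · rintro ⟨y, hy, rfl⟩
        exact ⟨y, hy, (hcomm z (Finset.mem_insert_self _ _) y (Finset.mem_insert_of_mem hy)).eq⟩
    have key : ∀ j : ℕ, W ≤ Submodule.span k {z ^ j} * W ⊔ J' * W := by
      intro j
      induction j with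
      | zero =>
        rw [pow_zero, ← Submodule.one_eq_span, one_mul]
        exact le_sup_left
      | succ j ihj =>
        calc W ≤ Submodule.span k {z} * W ⊔ J' * W := h
          _ ≤ Submodule.span k {z} * (Submodule.span k {z ^ j} * W ⊔ J' * W) ⊔ J' * W :=
              sup_le_sup_right (mul_le_mul_right ihj _) _
          _ = Submodule.span k {z ^ (j + 1)} * W ⊔ J' * (Submodule.span k {z} * W) ⊔ J' * W := by
              rw [Submodule.mul_sup, ← mul_assoc, ← mul_assoc, Submodule.span_mul_span,
                Set.singleton_mul_singleton, ← pow_succ', hzJ, mul_assoc]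
          _ ≤ Submodule.span k {z ^ (j + 1)} * W ⊔ J' * W ⊔ J' * W :=
              sup_le_sup_right (sup_le_sup_left (mul_le_mul_right hzW _) _) _
          _ = Submodule.span k {z ^ (j + 1)} * W ⊔ J' * W := by
              rw [sup_assoc, sup_idem]
    obtain ⟨n, hn⟩ := hnil z (Finset.mem_insert_self _ _)
    have := key n
    rwa [hn, Submodule.span_zero_singleton, Submodule.bot_mul, bot_sup_eq] at this

/-- Nakayama for a finite dimensional space `J` of commuting nilpotent elements. -/
theorem nak [Module.Finite k A] (J W : Submodule k A) (hnil : ∀ z ∈ J, IsNilpotent z)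
    (hcomm : ∀ z ∈ J, ∀ z' ∈ J, Commute z z') (hst : ∀ z ∈ J, ∀ w ∈ W, z * w ∈ W)
    (h : W ≤ J * W) : W = ⊥ := by
  obtain ⟨s, hs⟩ : J.FG := IsNoetherian.noetherian J
  have hsJ : ∀ z ∈ s, z ∈ J := fun z hz => hs ▸ Submodule.subset_span hz
  exact nak_aux W s (fun z hz => hnil z (hsJ z hz))
    (fun z hz z' hz' => hcomm z (hsJ z hz) z' (hsJ z' hz'))
    (fun z hz => hst z (hsJ z hz)) (by rw [hs]; exact h)

end GradedAux

end Cfsg.Agent.BlockLib
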