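import Cfsg.Agent.BlockLib.KG.Dict
import Cfsg.Agent.BlockLib.KG.DefPairs

/-!
# A block of a normal subgroup `C` that is also a block of `T`: `D C` has index prime to `p`
-/

set_option autoImplicit false

namespace Cfsg.Agent.BlockLib

namespace CA

universe u v

variable {k : Type u} {G : Type v} [Field k] [Group G] [Fintype G]

local notation "C(" P ")" => Subgroup.centralizer (SetLike.coe P)
local notation "N(" P ")" => Subgroup.normalizer (SetLike.coe P)
local notation "Ce(" g ")" => Subgroup.centralizer (Singleton.singleton g : Set _)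

theorem clsSum_conj {H : Subgroup G} {x : G} (hx : x ∈ H) (g : G) :
    (clsSum H (x * g * x⁻¹) : CA k G) = clsSum H g := by
  ext y
  by_cases hy : ∃ h ∈ H, h * g * h⁻¹ = y
  · rw [clsSum_apply_of hy, clsSum_apply_of]
    obtain ⟨h, hh, rfl⟩ := hy
    exact ⟨h * x⁻¹, H.mul_mem hh (H.inv_mem hx), by group⟩
  · rw [clsSum_apply_of_not hy, clsSum_apply_of_not]
    rintro ⟨h, hh, rfl⟩
    exact hy ⟨h * x, H.mul_mem hh hx, by group⟩

theorem clsSum_self (H : Subgroup G) (g : G) : (clsSum H g : CA k G) g = 1 :=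
  clsSum_apply_of ⟨1, H.one_mem, by simp⟩

omit [Fintype G] in
theorem IsSylIn.not_dvd_relIndex [Finite G] {p : ℕ} [Fact p.Prime] {D A : Subgroup G}
    (hD : IsSylIn p D A) : ¬ p ∣ D.relIndex A := by
  obtain ⟨S, rfl⟩ := hD.exists_sylow
  rw [Subgroup.relIndex, show ((S : Subgroup A).map A.subtype).subgroupOf A = S from subgroupOf_up _]
  exact S.not_dvd_index

omit [Fintype G] in
theorem not_dvd_relIndex_sup [Finite G] {p : ℕ} [Fact p.Prime] {C D A : Subgroup G} [C.Normal]
    (hD : IsSylIn p D A) : ¬ p ∣ (D ⊔ C).relIndex (A ⊔ C) := by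
  have hDA : D ≤ A := hD.2.1
  have h1 : C.relIndex (D ⊔ C) * (D ⊔ C).relIndex (A ⊔ C) = C.relIndex (A ⊔ C) :=
    Subgroup.relIndex_mul_relIndex _ _ _ le_sup_right (sup_le_sup_right hDA C)
  rw [Subgroup.relIndex_sup_right, Subgroup.relIndex_sup_right] at h1
  have h2 : (C ⊓ D).relIndex D * D.relIndex A = (C ⊓ D).relIndex A :=
    Subgroup.relIndex_mul_relIndex _ _ _ inf_le_right hDA
  have h3 : (C ⊓ D).relIndex (C ⊓ A) * (C ⊓ A).relIndex A = (C ⊓ D).relIndex A :=
    Subgroup.relIndex_mul_relIndex _ _ _ (inf_le_inf_left C hDA) inf_le_right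
  rw [Subgroup.inf_relIndex_right] at h2 h3
  have h4 : C.relIndex D * D.relIndex A =
      C.relIndex D * ((C ⊓ D).relIndex (C ⊓ A) * (D ⊔ C).relIndex (A ⊔ C)) := by
    rw [h2, ← h3, ← h1]; ring
  have hpos : 0 < C.relIndex D := Nat.pos_of_ne_zero Subgroup.index_ne_zero_of_finite
  have h5 := Nat.eq_of_mul_eq_mul_left hpos h4
  intro hdvd
  apply hD.not_dvd_relIndex
  rw [h5]
  exact Dvd.dvd.mul_left hdvd _

variable [Split k G] {p : ℕ} [Fact p.Prime] [CharP k p]

/-- If `ε` is a block of the normal subgroup `C` and of `G`, with defect group `D` in `G`, then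
`D C` has index prime to `p`. -/
theorem not_dvd_index_of_isDefGrp {C : Subgroup G} [hCn : C.Normal] {ε : CA k G}
    (hC : IsBlk C ε) (hG : IsBlk ⊤ ε) {D : Subgroup G} (hD : IsDefGrp p ⊤ ε D) :
    ¬ p ∣ (D ⊔ C).index := by
  classical
  obtain ⟨g, hg, hSyl⟩ := hD
  rw [top_inf_eq] at hSyl
  have hgC : g ∈ C := by
    by_contra h
    exact hg.1 (hC.mem.1 g h)
  have hcjsC : ∀ t : G, cjs t C = C := fun t =>
    cjs_eq_of_mem_normalizer (by rw [Subgroup.normalizer_eq_top]; trivial)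
  have hconjC : ∀ t : G, t * g * t⁻¹ ∈ C := fun t => hCn.conj_mem g hgC t
  obtain ⟨Y, hY⟩ : ∃ Y : Subgroup G, Y = C ⊔ Ce(g) := ⟨_, rfl⟩
  have hφ : ∀ t t' : G, (clsSum C (t * g * t⁻¹) : CA k G) = clsSum C (t' * g * t'⁻¹) ↔
      t⁻¹ * t' ∈ Y := by
    intro t t'
    constructor
    · intro h
      have h1 : (clsSum C (t * g * t⁻¹) : CA k G) (t' * g * t'⁻¹) ≠ 0 := by
        rw [h, clsSum_self]; exact one_ne_zero
      obtain ⟨c, hc, hce⟩ := (clsSum_ne_zero_iff (k := k)).mp h1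
      have ha : t'⁻¹ * c * t ∈ Ce(g) := by
        rw [Subgroup.mem_centralizer_singleton_iff]
        have : t'⁻¹ * (c * (t * g * t⁻¹) * c⁻¹) * t' = g := by rw [hce]; group
        calc t'⁻¹ * c * t * g = t'⁻¹ * (c * (t * g * t⁻¹) * c⁻¹) * t' * (t'⁻¹ * c * t) := by group
          _ = g * (t'⁻¹ * c * t) := by rw [this]
      have h2 : t⁻¹ * t' = (t'⁻¹ * c * t)⁻¹ * (t'⁻¹ * c * t'⁻¹⁻¹) := by group
      rw [h2, hY]
      exact Subgroup.mul_mem _ (Subgroup.inv_mem _ ((le_sup_right : Ce(g) ≤ C ⊔ Ce(g)) ha))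
        ((le_sup_left : C ≤ C ⊔ Ce(g)) (hCn.conj_mem c hc t'⁻¹))
    · intro h
      rw [hY] at h
      obtain ⟨c, hc, a, ha, hca⟩ := Subgroup.mem_sup_of_normal_left.mp h
      rw [Subgroup.mem_centralizer_singleton_iff] at ha
      have ht' : t' = t * (c * a) := by rw [hca]; group
      have h3 : a * g * a⁻¹ = g := by rw [ha]; group
      have h4 : t' * g * t'⁻¹ = (t * c * t⁻¹) * (t * g * t⁻¹) * (t * c * t⁻¹)⁻¹ := by
        calc t' * g * t'⁻¹ = t * c * (a * g * a⁻¹) * c⁻¹ * t⁻¹ := by rw [ht']; group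
          _ = (t * c * t⁻¹) * (t * g * t⁻¹) * (t * c * t⁻¹)⁻¹ := by rw [h3]; group
      rw [h4, clsSum_conj (hCn.conj_mem c hc t)]
  haveI : Fintype (G ⧸ Y) := Fintype.ofFinite _
  let ψ : G ⧸ Y → CA k G := Quotient.lift (fun t => (clsSum C (t * g * t⁻¹) : CA k G)) (by
    intro t t' h
    exact (hφ t t').mpr (QuotientGroup.leftRel_apply.mp h))
  have hψ : ∀ t : G, ψ (QuotientGroup.mk t) = clsSum C (t * g * t⁻¹) := fun t => rfl
  have hsum : (clsSum ⊤ g : CA k G) = ∑ q : G ⧸ Y, ψ q := by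
    ext x
    rw [sum_apply]
    by_cases hx : ∃ h ∈ (⊤ : Subgroup G), h * g * h⁻¹ = x
    · rw [clsSum_apply_of hx]
      obtain ⟨t, -, rfl⟩ := hx
      rw [Finset.sum_eq_single (QuotientGroup.mk t : G ⧸ Y)]
      · rw [hψ, clsSum_self]
      · intro q _ hq
        induction q using QuotientGroup.induction_on with
        | H t' =>
          rw [hψ]
          by_contra hne
          apply hq
          obtain ⟨c, hc, hce⟩ := (clsSum_ne_zero_iff (k := k)).mp hne
          have : (clsSum C (t' * g * t'⁻¹) : CA k G) = clsSum C (t * g * t⁻¹) := by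
            rw [← hce, clsSum_conj hc]
          exact QuotientGroup.eq.mpr ((hφ t' t).mp this)
      · intro h; exact absurd (Finset.mem_univ _) h
    · rw [clsSum_apply_of_not hx]
      symm
      apply Finset.sum_eq_zero
      intro q _
      induction q using QuotientGroup.induction_on with
      | H t' =>
        rw [hψ, clsSum_apply_of_not]
        rintro ⟨c, hc, hce⟩
        exact hx ⟨c * t', trivial, by rw [← hce]; group⟩
  have hz : (clsSum ⊤ g : CA k G) ∈ cen C :=
    ⟨fun x hx => clsSum_apply_of_not (by rintro ⟨t, -, rfl⟩; exact hx (hconjC t)),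
      fix_anti le_top (clsSum_mem_cen (H := ⊤) trivial).2⟩
  have hlam1 : lam ⊤ ε (clsSum ⊤ g) = lam C ε (clsSum ⊤ g) :=
    lam_unique hG (clsSum_mem_cen trivial) (lam_spec hC hz)
  have hlam2 : ∀ q, lam C ε (ψ q) = lam C ε (clsSum C g) := by
    intro q
    induction q using QuotientGroup.induction_on with
    | H t =>
      rw [hψ]
      have h1 := lam_cj t hC (clsSum_mem_cen (k := k) hgC)
      rwa [cj_clsSum, hcjsC, mem_fix_iff_cj.mp hG.mem.2 t trivial] at h1
  have hmem : ∀ q ∈ (Finset.univ : Finset (G ⧸ Y)), ψ q ∈ cen C := by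
    intro q _
    induction q using QuotientGroup.induction_on with
    | H t => rw [hψ]; exact clsSum_mem_cen (hconjC t)
  have hne := hg.2
  rw [hlam1, hsum, lam_sum hC _ _ hmem, Finset.sum_congr rfl (fun q _ => hlam2 q),
    Finset.sum_const, Finset.card_univ] at hne
  have hidx : ¬ p ∣ Y.index := by
    intro hdvd
    apply hne
    rw [Subgroup.index, Nat.card_eq_fintype_card] at hdvd
    rw [nsmul_eq_mul, (CharP.cast_eq_zero_iff k p _).mpr hdvd, zero_mul]
  intro hdvd
  have h1 := Subgroup.relIndex_mul_index (show D ⊔ C ≤ Ce(g) ⊔ C from sup_le_sup_right hSyl.2.1 C)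
  rw [← h1] at hdvd
  rcases (Nat.Prime.dvd_mul Fact.out).mp hdvd with h | h
  · exact not_dvd_relIndex_sup hSyl h
  · exact hidx (by rwa [hY, sup_comm])

end CA

end Cfsg.Agent.BlockLib
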