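import Cfsg.Agent.BlockLib.KG.Rel
import Cfsg.Agent.BlockLib.KG.GrpAux

/-!
# Inertial quotients, blocks with abelian defect groups, nilpotent blocks
-/

set_option autoImplicit false

namespace Cfsg.Agent.BlockLib

namespace CA

universe u v

local notation "C(" P ")" => Subgroup.centralizer (SetLike.coe P)
local notation "N(" P ")" => Subgroup.normalizer (SetLike.coe P)

variable {k : Type v} [Field k] {G : Type u} [Group G] [Fintype G] [Split k G]
variable {p : ℕ} [Fact p.Prime] [CharP k p]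

omit [Fintype G] in
theorem card_lt_of_lt [Finite G] {Q R : Subgroup G} (h : Q < R) : Nat.card Q < Nat.card R := by
  by_contra hcon
  exact h.ne (Subgroup.eq_of_le_of_card_ge h.le (not_lt.mp hcon))

theorem RelData.isRelMax_of_isDefGrp {Q H R : Subgroup G} {f g : CA k G} (h : RelData p Q f H)
    (hle : SubLE p (Q, f) (R, g)) (hD : IsDefGrp p H f R) : IsRelMax p H R g := by
  intro S g' hS hSg hle'
  have h1 : NSub p Q f S g' :=
    (hle.trans hle').nsub hSg (hS.trans (h.les.trans (stab_le_normalizer Q f)))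
  obtain ⟨x, -, hx⟩ := (hD.br_ne_zero_iff h.isBlk hSg.1 hS).mp h1.br_ne_zero
  symm
  apply Subgroup.eq_of_le_of_card_ge hle'.le
  have := Subgroup.card_le_of_le hx
  rwa [card_cjs] at this

omit [Split k G] [Fact p.Prime] [CharP k p] in
theorem exists_isRelMax_ge (H : Subgroup G) {R : Subgroup G} {g : CA k G} (hR : R ≤ H)
    (hRg : IsBP p R g) :
    ∃ (D : Subgroup G) (h : CA k G), D ≤ H ∧ IsBP p D h ∧ SubLE p (R, g) (D, h) ∧
      IsRelMax p H D h := by
  induction R using WellFoundedGT.induction generalizing g with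
  | ind R ih =>
    by_cases hmax : IsRelMax p H R g
    · exact ⟨R, g, hR, hRg, Relation.ReflTransGen.refl, hmax⟩
    · unfold IsRelMax at hmax
      push Not at hmax
      obtain ⟨S, g', hS, hSg, hle, hne⟩ := hmax
      have hlt : R < S := lt_of_le_of_ne hle.le (fun h' => hne h'.symm)
      obtain ⟨D, h, hD, hDh, hle', hmax'⟩ := ih S hlt hS hSg
      exact ⟨D, h, hD, hDh, hle.trans hle', hmax'⟩

theorem IsBP.relData_stab {Q : Subgroup G} {f : CA k G} (h : IsBP p Q f) :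
    RelData p Q f (stab Q f) :=
  ⟨h, le_stab_self h.2.mem.1, centralizer_le_stab h.2.mem, le_rfl⟩

theorem IsMaxBP.isRelMax {b e : CA k G} {P : Subgroup G} (h : IsMaxBP p b P e) (H : Subgroup G) :
    IsRelMax p H P e :=
  fun S g' _ _ hle => h.2 S g' (hle.isBPOf_iff.mp h.1) hle

theorem IsMaxBP.isDefGrp_stab {b e : CA k G} {P : Subgroup G} (h : IsMaxBP p b P e) :
    IsDefGrp p (stab P e) e P :=
  (h.1.1.relData_stab.main (le_stab_self h.1.1.2.mem.1) Relation.ReflTransGen.refl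
    (h.isRelMax _)).1

omit [Split k G] [Fact p.Prime] [CharP k p] in
theorem stab_le_normalizer_centralizer (Q : Subgroup G) (f : CA k G) : stab Q f ≤ N(C(Q)) :=
  (stab_le_normalizer Q f).trans (normalizer_le_normalizer_centralizer Q)

/-- The inertial quotient `N_G(P, e) / P C_G(P)` of a maximal pair is a `p'`-group. -/
theorem IsMaxBP.not_dvd_relIndex {b e : CA k G} {P : Subgroup G} (h : IsMaxBP p b P e) :
    ¬ p ∣ (P ⊔ C(P)).relIndex (stab P e) :=
  not_dvd_relIndex_of_isDefGrp (centralizer_le_stab h.1.1.2.mem)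
    (stab_le_normalizer_centralizer P e) h.1.1.2 h.1.1.relData_stab.isBlk h.isDefGrp_stab

theorem SubLE.mem_stab_of_cjs {P : Subgroup G} {e : CA k G} {g : G} (hPe : IsBP p P e)
    (h : SubLE p (cjs g P, CA.cj g e) (P, e)) : g ∈ stab P e := by
  have h1 : cjs g P = P := Subgroup.eq_of_le_of_card_ge h.le (by rw [card_cjs])
  refine ⟨mem_normalizer_of_cjs_eq h1, ?_⟩
  rw [h1] at h
  exact SubLE.unique hPe h Relation.ReflTransGen.refl

/-- Abelian defect groups: `N_G(Q, f) ⊆ N_G(P, e) C_G(Q)`. -/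
theorem IsMaxBP.stab_le_of_abelian {b e f : CA k G} {P Q : Subgroup G} (h : IsMaxBP p b P e)
    (hab : P ≤ C(P)) (hle : SubLE p (Q, f) (P, e)) {x : G} (hx : x ∈ stab Q f) :
    ∃ y ∈ stab P e, ∃ c ∈ C(Q), x = y * c := by
  have hPe : IsBP p P e := h.1.1
  have hQf : IsBP p Q f := hle.isBP hPe
  have hPC : P ≤ C(Q) := hab.trans (Subgroup.centralizer_le hle.le)
  have hrel : RelData p Q f C(Q) :=
    ⟨hQf, hle.le.trans hPC, le_rfl, centralizer_le_stab hQf.2.mem⟩
  have hx' : x⁻¹ ∈ stab Q f := Subgroup.inv_mem _ hx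
  have h1 := hle.cj x⁻¹
  simp only [cjs_eq_of_mem_normalizer hx'.1, hx'.2] at h1
  have h2 : cjs x⁻¹ P ≤ C(Q) := by
    have := cjs_mono (x := x⁻¹) hPC
    rwa [← centralizer_cjs, cjs_eq_of_mem_normalizer hx'.1] at this
  obtain ⟨c, hc, h3⟩ := (hrel.main hPC hle (h.isRelMax _)).2 _ _ h2 h1
  rw [cjs_cjs, ← cj_mul] at h3
  have h4 := h3.mem_stab_of_cjs hPe
  exact ⟨(c * x⁻¹)⁻¹, Subgroup.inv_mem _ h4, c, hc, by group⟩

/-- Nilpotent blocks. -/
def IsNilBlk (p : ℕ) (b : CA k G) : Prop :=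
  IsBlk ⊤ b ∧ ∀ (Q : Subgroup G) (f : CA k G), IsBPOf p b Q f →
    ∀ x ∈ stab Q f, ¬ p ∣ orderOf x → x ∈ C(Q)

theorem IsNilBlk.stab_le_sup {b f : CA k G} {Q D : Subgroup G} (hn : IsNilBlk p b)
    (hbQ : IsBPOf p b Q f) (hD : IsDefGrp p (stab Q f) f D) : stab Q f ≤ D ⊔ C(Q) :=
  GrpAux.le_sup_of_nil (centralizer_le_stab hbQ.1.2.mem) (stab_le_normalizer_centralizer Q f)
    (hn.2 Q f hbQ)
    (not_dvd_relIndex_of_isDefGrp (centralizer_le_stab hbQ.1.2.mem)
      (stab_le_normalizer_centralizer Q f) hbQ.1.2 hbQ.1.relData_stab.isBlk hD)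

/-- In a nilpotent block, `P` controls the fusion of the Brauer pairs below `(P, e)`. -/
theorem IsNilBlk.control {b e : CA k G} {P : Subgroup G} (hn : IsNilBlk p b)
    (h : IsMaxBP p b P e) : ∀ (Q : Subgroup G) (f : CA k G) (g : G), SubLE p (Q, f) (P, e) →
      SubLE p (cjs g Q, cj g f) (P, e) → ∃ u ∈ P, u⁻¹ * g ∈ C(Q) := by
  have hPe : IsBP p P e := h.1.1
  suffices H : ∀ (n : ℕ) (Q : Subgroup G) (f : CA k G) (g : G), Nat.card P - Nat.card Q = n →
      SubLE p (Q, f) (P, e) → SubLE p (cjs g Q, cj g f) (P, e) → ∃ u ∈ P, u⁻¹ * g ∈ C(Q) from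
    fun Q f g => H _ Q f g rfl
  intro n
  induction n using Nat.strong_induction_on with
  | _ n ih =>
    intro Q f g hcard hle hle'
    have hQf : IsBP p Q f := hle.isBP hPe
    have hbQ : IsBPOf p b Q f := hle.isBPOf_iff.mpr h.1
    rcases eq_or_lt_of_le hle.le with hQP | hlt
    · simp only at hQP
      subst hQP
      have hf : f = e := SubLE.unique hPe hle Relation.ReflTransGen.refl
      subst hf
      have hg := hle'.mem_stab_of_cjs hPe
      have h1 := hn.stab_le_sup h.1 h.isDefGrp_stab hg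
      obtain ⟨u, hu, c, hc, huc⟩ := (GrpAux.mem_sup_iff_of_le_normalizer
        (Subgroup.le_normalizer.trans (normalizer_le_normalizer_centralizer Q))).mp h1
      exact ⟨u, hu, by rw [← huc]; simpa using hc⟩
    · simp only at hlt
      have hQR : Q < P ⊓ N(Q) := lt_inf_normalizer hPe.1 hlt
      obtain ⟨eR, hN1, hR1⟩ := hle.exists_nsub_mid hPe hQR.le inf_le_left inf_le_right
      have hlt' : cjs g Q < P := by
        refine lt_of_le_of_ne hle'.le fun heq => ?_
        have := card_lt_of_lt hlt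
        rw [← heq, card_cjs] at this
        exact lt_irrefl _ this
      have hQR' : cjs g Q < P ⊓ N(cjs g Q) := lt_inf_normalizer hPe.1 hlt'
      obtain ⟨eR', hN2, hR2⟩ := hle'.exists_nsub_mid hPe hQR'.le inf_le_left inf_le_right
      have hN2' := hN2.cj g⁻¹
      rw [cjs_inv_cjs, cj_inv_cj] at hN2'
      have hrel := hQf.relData_stab
      obtain ⟨D, eD, hDT, hDbp, hRD, hDmax⟩ := exists_isRelMax_ge (stab Q f) hN1.le_stab hN1.2.1
      have hQD : SubLE p (Q, f) (D, eD) := hN1.subLE.trans hRD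
      obtain ⟨hDdef, hconj⟩ := hrel.main hDT hQD hDmax
      obtain ⟨t, ht, hts⟩ := hconj _ _ hN2'.le_stab hN2'.subLE
      have hbD : IsBPOf p b D eD := hQD.isBPOf_iff.mp hbQ
      obtain ⟨z, hz⟩ := h.exists_conj_subLE hbD
      have h1 : SubLE p (cjs z (P ⊓ N(Q)), cj z eR) (P, e) := (hRD.cj z).trans hz
      have hcP : Nat.card Q < Nat.card P := card_lt_of_lt hlt
      have hc1 : Nat.card P - Nat.card (P ⊓ N(Q) : Subgroup G) < n := by
        have := card_lt_of_lt hQR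
        omega
      obtain ⟨u₁, hu₁, hc₁⟩ := ih _ hc1 _ _ z rfl hR1 h1
      have h2 : SubLE p (cjs (z * t * g⁻¹) (P ⊓ N(cjs g Q)), cj (z * t * g⁻¹) eR') (P, e) := by
        have := (hts.cj z).trans hz
        simpa only [cjs_cjs, ← cj_mul, ← mul_assoc] using this
      have hc2 : Nat.card P - Nat.card (P ⊓ N(cjs g Q) : Subgroup G) < n := by
        have := card_lt_of_lt hQR'
        rw [card_cjs] at this
        omega
      obtain ⟨u₂, hu₂, hc₂⟩ := ih _ hc2 _ _ (z * t * g⁻¹) rfl hR2 h2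
      have ht' := hn.stab_le_sup hbQ hDdef ht
      obtain ⟨d, hd, c₃, hc₃, hdc⟩ := (GrpAux.mem_sup_iff_of_le_normalizer
        (hDT.trans (stab_le_normalizer_centralizer Q f))).mp ht'
      have hd' : z * d * z⁻¹ ∈ P := hz.le ⟨d, hd, rfl⟩
      refine ⟨u₂⁻¹ * (z * d * z⁻¹) * u₁, P.mul_mem (P.mul_mem (P.inv_mem hu₂) hd') hu₁, ?_⟩
      have hc₁' : u₁⁻¹ * z ∈ C(Q) := Subgroup.centralizer_le hQR.le hc₁
      have hc₄ : g⁻¹ * (u₂⁻¹ * (z * t * g⁻¹)) * g ∈ C(Q) :=
        mem_centralizer_cjs.mp (Subgroup.centralizer_le hQR'.le hc₂)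
      have key : (u₂⁻¹ * (z * d * z⁻¹) * u₁)⁻¹ * g =
          (u₁⁻¹ * z) * c₃ * (g⁻¹ * (u₂⁻¹ * (z * t * g⁻¹)) * g)⁻¹ := by
        rw [← hdc]; group
      rw [key]
      exact Subgroup.mul_mem _ (Subgroup.mul_mem _ hc₁' hc₃) (Subgroup.inv_mem _ hc₄)

end CA

end Cfsg.Agent.BlockLib
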