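import Cfsg.Agent.BlockLib.KG.Principal
import Cfsg.Agent.BlockLib.KG.Dict
import Cfsg.Agent.H9.Cores
import Cfsg.Prelude.Def_OddOrderLocal

/-!
# Normal `p'`-subgroups in the kernel of a block, via the averaging idempotent
-/

set_option autoImplicit false

namespace Cfsg.Agent.BlockLib

namespace CA

open Cfsg

universe u v

local notation "C(" P ")" => Subgroup.centralizer (SetLike.coe P)
local notation "N(" P ")" => Subgroup.normalizer (SetLike.coe P)

section W

variable {G : Type u} [Group G]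

/-- `Y` is a `σ`-group. -/
def IsSig (σ : Set ℕ) (Y : Subgroup G) : Prop := ∀ q : ℕ, q.Prime → q ∣ Nat.card Y → q ∈ σ

/-- `O_σ(H)` as a subgroup of `G`. -/
def W (σ : Set ℕ) (H : Subgroup G) : Subgroup G := up H (piCore σ ↥H)

variable {σ : Set ℕ}

theorem IsSig.mono {Y Y' : Subgroup G} (h : IsSig σ Y) (hle : Y' ≤ Y) : IsSig σ Y' :=
  fun q hq hd => h q hq (hd.trans (Subgroup.card_dvd_of_le hle))

theorem IsSig.cjs {Y : Subgroup G} (h : IsSig σ Y) (x : G) : IsSig σ (cjs x Y) := by
  intro q hq hd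
  rw [card_cjs] at hd
  exact h q hq hd

theorem W_le (H : Subgroup G) : W σ H ≤ H := up_le _

theorem isSig_W [Finite G] (H : Subgroup G) : IsSig σ (W σ H) := by
  intro q hq hd
  rw [W, up, Subgroup.card_map_of_injective H.subtype_injective] at hd
  exact Cfsg.H9.rad_prop (G := ↥H) (Cfsg.H9.cardClass_pi σ).radClass q hq hd

theorem le_W {Y H : Subgroup G} (hYH : Y ≤ H) (hn : H ≤ N(Y)) (hY : IsSig σ Y) : Y ≤ W σ H := by
  have h1 : Y.subgroupOf H ≤ piCore σ ↥H := by
    apply le_sSup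
    refine ⟨(Subgroup.normal_subgroupOf_iff_le_normalizer hYH).mpr hn, ?_⟩
    rw [Nat.card_congr (Subgroup.subgroupOfEquivOfLe hYH).toEquiv]
    exact hY
  rw [← up_subgroupOf (H := H) hYH]
  exact up_le_up.mpr h1

theorem le_normalizer_W (H : Subgroup G) : H ≤ N(W σ H) := by
  have h1 := up_normalizer (piCore σ ↥H)
  rw [Subgroup.normalizer_eq_top, up_top] at h1
  have h2 : H ≤ H ⊓ N(up H (piCore σ ↥H)) := h1.le
  exact h2.trans inf_le_right

theorem cjs_W_le [Finite G] (x : G) (H : Subgroup G) : cjs x (W σ H) ≤ W σ (cjs x H) := by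
  apply le_W (cjs_mono (W_le H))
  · rw [normalizer_cjs]
    exact cjs_mono (le_normalizer_W H)
  · exact (isSig_W H).cjs x

theorem cjs_W [Finite G] (x : G) (H : Subgroup G) : cjs x (W σ H) = W σ (cjs x H) := by
  apply le_antisymm (cjs_W_le x H)
  have := cjs_W_le (σ := σ) x⁻¹ (cjs x H)
  rwa [cjs_inv_cjs, ← le_cjs_iff] at this

theorem normalizer_le_normalizer_W [Finite G] (H : Subgroup G) : N(H) ≤ N(W σ H) := by
  intro x hx
  apply mem_normalizer_of_cjs_eq
  rw [cjs_W, cjs_eq_of_mem_normalizer hx]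

theorem mem_of_isSig {Y : Subgroup G} (hY : IsSig σ Y) {y : G} (hy : y ∈ Y) :
    ∀ q : ℕ, q.Prime → q ∣ orderOf y → q ∈ σ := by
  intro q hq hd
  apply hY q hq (hd.trans ?_)
  have := orderOf_dvd_natCard (⟨y, hy⟩ : Y)
  rwa [Subgroup.orderOf_mk] at this

end W

section av

variable {k : Type v} [Field k] {G : Type u} [Group G] [Fintype G]

open Classical in
/-- The averaging element of the subgroup `Y`. -/
noncomputable def av (Y : Subgroup G) : CA k G :=
  ofFun fun g => if g ∈ Y then (Nat.card Y : k)⁻¹ else 0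

omit [Fintype G] in
theorem av_apply_mem {Y : Subgroup G} {g : G} (hg : g ∈ Y) :
    (av Y : CA k G) g = (Nat.card Y : k)⁻¹ := by
  show (@ite _ _ (Classical.propDecidable _) _ _) = _
  rw [if_pos hg]

omit [Fintype G] in
theorem av_apply_not_mem {Y : Subgroup G} {g : G} (hg : g ∉ Y) : (av Y : CA k G) g = 0 := by
  show (@ite _ _ (Classical.propDecidable _) _ _) = _
  rw [if_neg hg]

theorem av_mem_supp (Y : Subgroup G) : (av Y : CA k G) ∈ supp Y := fun _ hg => av_apply_not_mem hg

theorem cj_av (x : G) (Y : Subgroup G) : cj x (av Y : CA k G) = av (cjs x Y) := by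
  ext g
  rw [cj_apply]
  by_cases hg : g ∈ cjs x Y
  · rw [av_apply_mem hg, av_apply_mem (mem_cjs.mp hg), card_cjs]
  · rw [av_apply_not_mem hg, av_apply_not_mem (fun h => hg (mem_cjs.mpr h))]

theorem av_mem_fix {Y T : Subgroup G} (h : T ≤ N(Y)) : (av Y : CA k G) ∈ fix T := by
  rw [mem_fix_iff_cj]
  intro u hu
  rw [cj_av, cjs_eq_of_mem_normalizer (h hu)]

theorem av_mul_of_mem_supp {Y : Subgroup G} {c : CA k G} (hc : c ∈ supp Y) :
    av Y * c = aug c • av Y := by
  ext x
  rw [mul_apply', smul_apply, aug_apply, Finset.sum_mul]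
  refine Finset.sum_congr rfl fun h _ => ?_
  by_cases hh : h ∈ Y
  · have : (av Y : CA k G) (x * h⁻¹) = av Y x := by
      by_cases hx : x ∈ Y
      · rw [av_apply_mem hx, av_apply_mem (Y.mul_mem hx (Y.inv_mem hh))]
      · rw [av_apply_not_mem hx, av_apply_not_mem]
        intro h1
        apply hx
        have := Y.mul_mem h1 hh
        rwa [inv_mul_cancel_right] at this
    rw [this, mul_comm]
  · rw [hc h hh, mul_zero, zero_mul]

theorem aug_av {Y : Subgroup G} (hY : (Nat.card Y : k) ≠ 0) : aug (av Y : CA k G) = 1 := by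
  classical
  rw [aug_apply]
  have h1 : ∀ g, (av Y : CA k G) g = if g ∈ Y then (Nat.card Y : k)⁻¹ else 0 := by
    intro g
    split_ifs with hg
    · exact av_apply_mem hg
    · exact av_apply_not_mem hg
  simp only [h1]
  rw [← Finset.sum_filter, Finset.sum_const, nsmul_eq_mul]
  have h2 : (Finset.univ.filter (· ∈ Y)).card = Nat.card Y := by
    rw [Nat.card_eq_fintype_card, Fintype.card_subtype]
  rw [h2, mul_inv_cancel₀ hY]

theorem av_mul_av {Y Y' : Subgroup G} (hle : Y' ≤ Y) (hY' : (Nat.card Y' : k) ≠ 0) :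
    (av Y * av Y' : CA k G) = av Y := by
  rw [av_mul_of_mem_supp (supp_mono hle (av_mem_supp Y')), aug_av hY', one_smul]

theorem av_ne_zero {Y : Subgroup G} (hY : (Nat.card Y : k) ≠ 0) : (av Y : CA k G) ≠ 0 := by
  intro h
  have := aug_av hY
  rw [h, map_zero] at this
  exact zero_ne_one this

theorem br_av (R Y : Subgroup G) :
    br R (av Y : CA k G) =
      ((Nat.card Y : k)⁻¹ * (Nat.card (Y ⊓ C(R) : Subgroup G) : k)) • av (Y ⊓ C(R)) := by
  by_cases h0 : (Nat.card (Y ⊓ C(R) : Subgroup G) : k) = 0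
  · -- degenerate case
    ext g
    rw [smul_apply, h0, mul_zero, zero_mul]
    by_cases hg : g ∈ C(R)
    · rw [br_apply_of_mem _ hg]
      by_cases hgY : g ∈ Y
      · rw [av_apply_mem hgY]
        have h1 : Nat.card (Y ⊓ C(R) : Subgroup G) ∣ Nat.card Y :=
          Subgroup.card_dvd_of_le inf_le_left
        obtain ⟨m, hm⟩ := h1
        rw [hm, Nat.cast_mul, h0, zero_mul, inv_zero]
      · exact av_apply_not_mem hgY
    · exact br_apply_of_not_mem _ hg
  · ext g
    rw [smul_apply]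
    by_cases hg : g ∈ C(R)
    · rw [br_apply_of_mem _ hg]
      by_cases hgY : g ∈ Y
      · rw [av_apply_mem hgY, av_apply_mem (⟨hgY, hg⟩ : g ∈ Y ⊓ C(R)), mul_assoc,
          mul_inv_cancel₀ h0, mul_one]
      · rw [av_apply_not_mem hgY, av_apply_not_mem (fun h : g ∈ Y ⊓ C(R) => hgY h.1), mul_zero]
    · rw [br_apply_of_not_mem _ hg, av_apply_not_mem (fun h : g ∈ Y ⊓ C(R) => hg h.2), mul_zero]

theorem ext0_av (H : Subgroup G) [Fintype H] (Y : Subgroup H) :
    ext0 H (av Y : CA k H) = av (up H Y) := by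
  ext g
  by_cases hg : g ∈ H
  · rw [ext0_apply_mem H _ hg]
    by_cases hgY : (⟨g, hg⟩ : H) ∈ Y
    · rw [av_apply_mem hgY, av_apply_mem ((mk_mem_iff_up hg).mp hgY), up,
        Subgroup.card_map_of_injective H.subtype_injective]
    · rw [av_apply_not_mem hgY, av_apply_not_mem (fun h => hgY ((mk_mem_iff_up hg).mpr h))]
  · rw [ext0_apply_not_mem H _ hg, av_apply_not_mem (fun h => hg (up_le Y h))]

/-- `av Y` is the principal block of the `p'`-group `Y`. -/
theorem isPrin_av {Y : Subgroup G} (hY : (Nat.card Y : k) ≠ 0) : IsPrin Y (av Y : CA k G) := by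
  refine ⟨⟨⟨av_mem_supp Y, av_mem_fix Subgroup.le_normalizer⟩, av_mul_av le_rfl hY, av_ne_zero hY,
    fun c hc hcc => ?_⟩, by rw [aug_av hY]; exact one_ne_zero⟩
  rw [av_mul_of_mem_supp hc.1]
  have h1 : aug c * aug c = aug c := by rw [← map_mul, hcc]
  have h2 : aug c = 1 ∨ aug c = 0 := by
    by_cases h0 : aug c = 0
    · exact Or.inr h0
    · exact Or.inl (mul_right_cancel₀ h0 (by rw [h1, one_mul]))
  rcases h2 with h2 | h2
  · left; rw [h2, one_smul]
  · right; rw [h2, zero_smul]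

end av

end CA

end Cfsg.Agent.BlockLib
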