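import Cfsg.Agent.BlockLib.KG.DictPairs

/-!
# Relative versions (inside a subgroup `H` with `Q C_G(Q) ≤ H ≤ N_G(Q, f)`) of the main theorems
on maximal Brauer pairs
-/

set_option autoImplicit false

namespace Cfsg.Agent.BlockLib

namespace CA

universe u v

local notation "C(" P ")" => Subgroup.centralizer (SetLike.coe P)
local notation "N(" P ")" => Subgroup.normalizer (SetLike.coe P)
local notation "Ce(" g ")" => Subgroup.centralizer (Singleton.singleton g : Set _)

variable {k : Type v} [Field k] {G : Type u} [Group G] [Fintype G] [Split k G]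
variable {p : ℕ} [Fact p.Prime] [CharP k p]

/-- If `ε` is a block of `C` and of `T`, where `C ⊴ T`, with defect group `D` in `T`, then
`D C` has index prime to `p` in `T`. -/
theorem not_dvd_relIndex_of_isDefGrp {C T : Subgroup G} (hCT : C ≤ T) (hTN : T ≤ N(C))
    {ε : CA k G} (hC : IsBlk C ε) (hT : IsBlk T ε) {D : Subgroup G} (hD : IsDefGrp p T ε D) :
    ¬ p ∣ (D ⊔ C).relIndex T := by
  haveI : Fintype T := Fintype.ofFinite T
  haveI : Split k T := split_subgroup T
  haveI : (C.subgroupOf T).Normal := (Subgroup.normal_subgroupOf_iff_le_normalizer hCT).mpr hTN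
  have hε : ext0 T (res T ε) = ε := ext0_res T hT.mem.1
  have h1 : IsBlk (C.subgroupOf T) (res T ε) := by
    rw [← isBlk_ext0_up_iff T, up_subgroupOf hCT, hε]
    exact hC
  have h2 : IsBlk (⊤ : Subgroup T) (res T ε) := isBlk_res T hT
  have h3 : IsDefGrp p (⊤ : Subgroup T) (res T ε) (D.subgroupOf T) := by
    rw [← isDefGrp_ext0_iff T h2, up_top, up_subgroupOf hD.le, hε]
    exact hD
  have := not_dvd_index_of_isDefGrp h1 h2 h3
  rwa [← Subgroup.subgroupOf_sup hD.le hCT] at this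

theorem IsBP.isBlk_of_le' {Q : Subgroup G} {f : CA k G} (h : IsBP p Q f) {T : Subgroup G}
    (hQT : Q ≤ T) (hCT : C(Q) ≤ T) (hT : T ≤ stab Q f) : IsBlk T f :=
  IsBlk.of_fix h.1 hQT (hT.trans (stab_le_normalizer Q f)) hCT h.2
    (fix_anti hT (mem_fix_stab Q f))

/-- Data for the relative theory. -/
structure RelData (p : ℕ) (Q : Subgroup G) (f : CA k G) (H : Subgroup G) : Prop where
  bp : IsBP p Q f
  le : Q ≤ H
  cle : C(Q) ≤ H
  les : H ≤ stab Q f

theorem RelData.isBlk {Q H : Subgroup G} {f : CA k G} (h : RelData p Q f H) : IsBlk H f :=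
  h.bp.isBlk_of_le' h.le h.cle h.les

/-- `(R, g)` is maximal among the pairs above `(Q, f)` with subgroup in `H`. -/
def IsRelMax (p : ℕ) (H : Subgroup G) (R : Subgroup G) (g : CA k G) : Prop :=
  ∀ (S : Subgroup G) (g' : CA k G), S ≤ H → IsBP p S g' → SubLE p (R, g) (S, g') → S = R

theorem RelData.main {Q H : Subgroup G} {f : CA k G} (h : RelData p Q f H)
    {R₂ : Subgroup G} {h₂ : CA k G} (hR₂ : R₂ ≤ H) (hle₂ : SubLE p (Q, f) (R₂, h₂))
    (hmax : IsRelMax p H R₂ h₂) :
    IsDefGrp p H f R₂ ∧ ∀ (R₁ : Subgroup G) (h₁ : CA k G), R₁ ≤ H →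
      SubLE p (Q, f) (R₁, h₁) → ∃ x ∈ H, SubLE p (cjs x R₁, cj x h₁) (R₂, h₂) := by
  haveI : Fintype H := Fintype.ofFinite H
  haveI : Split k H := split_subgroup H
  have hfH : IsBlk H f := h.isBlk
  have hf : ext0 H (res H f) = f := ext0_res H hfH.mem.1
  have hf' : IsBlk (⊤ : Subgroup H) (res H f) := isBlk_res H hfH
  have hQ' : IsBP p (Q.subgroupOf H) (res H f) := by
    rw [← isBP_up_iff H (by rw [up_subgroupOf h.le]; exact h.cle), up_subgroupOf h.le, hf]
    exact h.bp
  have hQof : IsBPOf p (res H f) (Q.subgroupOf H) (res H f) :=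
    ⟨hQ', hf', by rw [br_eq_self hQ'.2.mem.1, hf'.idem]⟩
  have hof : ∀ (R : Subgroup G) (g : CA k G), R ≤ H → SubLE p (Q, f) (R, g) →
      IsBPOf p (res H f) (R.subgroupOf H) (res H g) := by
    intro R g hR hle
    exact (subLE_dn H hle h.cle hR).isBPOf_iff.mp hQof
  have hsupp : ∀ (R : Subgroup G) (g : CA k G), R ≤ H → SubLE p (Q, f) (R, g) →
      ext0 H (res H g) = g := by
    intro R g hR hle
    rcases Relation.ReflTransGen.cases_tail hle with heq | ⟨c, -, hc⟩
    · have : g = f := by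
        have := congrArg Prod.snd heq
        exact this
      rw [this, hf]
    · exact ext0_res H (supp_mono ((Subgroup.centralizer_le hle.le).trans h.cle) hc.2.1.2.mem.1)
  have hC₂ : C(R₂) ≤ H := (Subgroup.centralizer_le hle₂.le).trans h.cle
  have hmax' : IsMaxBP p (res H f) (R₂.subgroupOf H) (res H h₂) := by
    refine ⟨hof R₂ h₂ hR₂ hle₂, fun S' g' hS' hle' => ?_⟩
    have h1 := subLE_up H hle' (by rw [up_subgroupOf hR₂]; exact hC₂)
    simp only [up_subgroupOf hR₂, hsupp R₂ h₂ hR₂ hle₂] at h1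
    have h2 : IsBP p (up H S') (ext0 H g') :=
      (isBP_up_iff H ((Subgroup.centralizer_le h1.le).trans hC₂)).mpr hS'.1
    have h3 := hmax _ _ (up_le S') h2 h1
    rw [← h3, subgroupOf_up]
  constructor
  · have := hmax'.isDefGrp
    rwa [← isDefGrp_ext0_iff H hf', up_top, up_subgroupOf hR₂, hf] at this
  · intro R₁ h₁ hR₁ hle₁
    obtain ⟨x, hx⟩ := hmax'.exists_conj_subLE (hof R₁ h₁ hR₁ hle₁)
    refine ⟨x, x.2, ?_⟩
    have hxN : (x : G) ∈ N(Q) := (h.les x.2).1
    have h1 := subLE_up H hx (by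
      simp only [up_cjs, up_subgroupOf hR₁]
      refine (Subgroup.centralizer_le ?_).trans h.cle
      rw [← cjs_eq_of_mem_normalizer hxN]
      exact cjs_mono hle₁.le)
    simpa only [up_cjs, up_subgroupOf hR₁, up_subgroupOf hR₂, ext0_cj, hsupp R₁ h₁ hR₁ hle₁,
      hsupp R₂ h₂ hR₂ hle₂] using h1

end CA

end Cfsg.Agent.BlockLib
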