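import Cfsg.Agent.BlockLib.KG.Graded
import Cfsg.Agent.BlockLib.KG.Rel

/-!
# Covering blocks and defect groups (Knörr's theorem, Fong–Reynolds), at the level of idempotents
-/

set_option autoImplicit false

namespace Cfsg.Agent.BlockLib

namespace CA

universe u v

local notation "C(" P ")" => Subgroup.centralizer (SetLike.coe P)
local notation "N(" P ")" => Subgroup.normalizer (SetLike.coe P)

variable {k : Type v} [Field k] {G : Type u} [Group G] [Fintype G] [Split k G]
variable {p : ℕ} [Fact p.Prime] [CharP k p]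

/-- Relative form of the key lemma. -/
theorem br_ne_zero_of_mul_eq {N T : Subgroup G} (hNT : N ≤ T) (hTN : T ≤ N(N)) {d ε : CA k G}
    (hd : IsBlk N d) (hε : ε ∈ cen T) (hεε : ε * ε = ε) (hεd : ε * d = ε) (hne : ε ≠ 0)
    {Q : Subgroup G} (hQ : IsPGroup p Q) (hQN : Q ≤ N) (hbr : br Q d ≠ 0) : br Q ε ≠ 0 := by
  haveI : Fintype T := Fintype.ofFinite T
  haveI : Split k T := split_subgroup T
  haveI : (N.subgroupOf T).Normal := (Subgroup.normal_subgroupOf_iff_le_normalizer hNT).mpr hTN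
  have hd' : ext0 T (res T d) = d := ext0_res T (supp_mono hNT hd.mem.1)
  have hε' : ext0 T (res T ε) = ε := ext0_res T hε.1
  intro h0
  apply hne
  rw [← hε']
  have key := eq_zero_of_br_eq_zero (p := p) (N := N.subgroupOf T) (d := res T d) (ε := res T ε)
    (Q := Q.subgroupOf T) ?_ (res_mem_cen T hε) ?_ ?_ ?_ ?_ ?_ ?_
  · rw [key, map_zero]
  · rw [← isBlk_ext0_up_iff T, up_subgroupOf hNT, hd']
    exact hd
  · apply ext0_injective T
    rw [map_mul, hε', hεε]
  · apply ext0_injective T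
    rw [map_mul, hε', hd', hεd]
  · rw [← isPGroup_up_iff (H := T), up_subgroupOf (hQN.trans hNT)]
    exact hQ
  · rw [← up_le_up (H := T), up_subgroupOf (hQN.trans hNT), up_subgroupOf hNT]
    exact hQN
  · intro h1
    apply hbr
    have := congrArg (ext0 T) h1
    rwa [ext0_br, up_subgroupOf (hQN.trans hNT), hd', map_zero] at this
  · apply ext0_injective T
    rw [ext0_br, up_subgroupOf (hQN.trans hNT), hε', h0, map_zero]

omit [Split k G] [Fact p.Prime] [CharP k p] in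
/-- A block `d` of `N` with `b d = b` for a block `b` of `T ≥ N` is `T`-stable. -/
theorem cj_eq_of_mul_eq {N T : Subgroup G} (hTN : T ≤ N(N)) {d b : CA k G}
    (hd : IsBlk N d) (hb : IsBlk T b) (hbd : b * d = b) {x : G} (hx : x ∈ T) : cj x d = d := by
  have h1 : cj x b = b := mem_fix_iff_cj.mp hb.mem.2 x hx
  have h2 : b * cj x d = b := by
    have := congrArg (cj x) hbd
    rwa [map_mul, h1] at this
  have h3 : IsBlk N (cj x d) := hd.cj_of_mem_normalizer (hTN hx)
  apply h3.eq_of_mul_ne_zero hd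
  intro h0
  apply hb.ne_zero
  rw [← hbd, ← h2, mul_assoc, h0, mul_zero]

/-- **Knörr's theorem, stable case.** -/
theorem isDefGrp_inf_of_mul_eq {N T : Subgroup G} (hNT : N ≤ T) (hTN : T ≤ N(N)) {d b : CA k G}
    (hd : IsBlk N d) (hb : IsBlk T b) (hbd : b * d = b) {P : Subgroup G}
    (hP : IsDefGrp p T b P) : IsDefGrp p N d (P ⊓ N) := by
  obtain ⟨Q₀, hQ₀⟩ := exists_isDefGrp (p := p) hd
  have h1 : br Q₀ b ≠ 0 := br_ne_zero_of_mul_eq hNT hTN hd hb.mem hb.idem hbd hb.ne_zero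
    hQ₀.isPGroup hQ₀.le (hQ₀.br_ne_zero hd)
  obtain ⟨x, hx, hle⟩ := (hP.br_ne_zero_iff hb hQ₀.isPGroup (hQ₀.le.trans hNT)).mp h1
  have hx' : x⁻¹ ∈ T := T.inv_mem hx
  have hQ₁ : IsDefGrp p N d (cjs x⁻¹ Q₀) := by
    have := hQ₀.cj' hd x⁻¹
    rwa [cjs_eq_of_mem_normalizer (hTN hx'), cj_eq_of_mul_eq hTN hd hb hbd hx'] at this
  have hle₁ : cjs x⁻¹ Q₀ ≤ P ⊓ N := by
    refine le_inf ?_ hQ₁.le
    have := cjs_mono (x := x⁻¹) hle
    rwa [cjs_inv_cjs] at this
  have hPp : IsPGroup p (P ⊓ N : Subgroup G) := hP.isPGroup.to_le inf_le_left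
  have h2 : br (P ⊓ N) d ≠ 0 := by
    have h3 : br (P ⊓ N) b ≠ 0 := br_ne_zero_of_le inf_le_left (hP.br_ne_zero hb)
    rw [← hbd, br_mul hPp (fix_anti (inf_le_left.trans hP.le) hb.mem.2)
      (fix_anti inf_le_right hd.mem.2)] at h3
    exact right_ne_zero_of_mul h3
  obtain ⟨y, hy, hle₂⟩ := (hQ₁.br_ne_zero_iff hd hPp inf_le_right).mp h2
  rw [eq_cjs_of_le_of_le (y := 1) hle₂ (by simpa using hle₁)]
  exact hQ₁.cj hd hy

/-! ### Sums of conjugates -/

section conjs

omit [Split k G] [Fact p.Prime] [CharP k p]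

open Classical in
/-- The set of `H`-conjugates of `a`. -/
noncomputable def conjs (H : Subgroup G) (a : CA k G) : Finset (CA k G) :=
  ((Finset.univ : Finset G).filter (· ∈ H)).image (fun h => cj h a)

theorem mem_conjs {H : Subgroup G} {a a' : CA k G} :
    a' ∈ conjs H a ↔ ∃ h ∈ H, cj h a = a' := by
  classical
  simp only [conjs, Finset.mem_image, Finset.mem_filter, Finset.mem_univ, true_and]

theorem self_mem_conjs (H : Subgroup G) (a : CA k G) : a ∈ conjs H a :=
  mem_conjs.mpr ⟨1, H.one_mem, cj_one a⟩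

theorem cj_mem_conjs {H : Subgroup G} {a a' : CA k G} (ha' : a' ∈ conjs H a) {u : G}
    (hu : u ∈ H) : cj u a' ∈ conjs H a := by
  obtain ⟨h, hh, rfl⟩ := mem_conjs.mp ha'
  exact mem_conjs.mpr ⟨u * h, H.mul_mem hu hh, cj_mul u h a⟩

/-- The sum of the distinct `H`-conjugates of `a`. -/
noncomputable def trS (H : Subgroup G) (a : CA k G) : CA k G := ∑ a' ∈ conjs H a, a'

theorem trS_mem_fix (H : Subgroup G) (a : CA k G) : trS H a ∈ fix H := by
  rw [mem_fix_iff_cj]
  intro u hu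
  rw [trS, map_sum]
  refine Finset.sum_nbij' (fun a => cj u a) (fun a => cj u⁻¹ a) ?_ ?_ ?_ ?_ ?_
  · intro a' ha'
    exact cj_mem_conjs ha' hu
  · intro a' ha'
    exact cj_mem_conjs ha' (H.inv_mem hu)
  · intro a _; simp
  · intro a _; simp
  · intro a _; rfl

theorem trS_mem_supp {H : Subgroup G} {a : CA k G} (ha : a ∈ supp H) : trS H a ∈ supp H := by
  refine Subalgebra.sum_mem _ fun a' ha' => ?_
  obtain ⟨h, hh, rfl⟩ := mem_conjs.mp ha'
  have := cj_mem_supp h ha
  rwa [cjs_eq_of_mem_normalizer (Subgroup.le_normalizer hh)] at this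

theorem conjs_orth {H : Subgroup G} {a : CA k G}
    (hort : ∀ h ∈ H, cj h a = a ∨ cj h a * a = 0) {a' a'' : CA k G} (h' : a' ∈ conjs H a)
    (h'' : a'' ∈ conjs H a) (hne : a' ≠ a'') : a' * a'' = 0 := by
  obtain ⟨h, hh, rfl⟩ := mem_conjs.mp h'
  obtain ⟨g, hg, rfl⟩ := mem_conjs.mp h''
  have h1 : cj h a * cj g a = cj g (cj (g⁻¹ * h) a * a) := by
    rw [map_mul, ← cj_mul, mul_inv_cancel_left]
  rcases hort (g⁻¹ * h) (H.mul_mem (H.inv_mem hg) hh) with h2 | h2
  · exfalso
    apply hne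
    have := congrArg (cj g) h2
    rwa [← cj_mul, mul_inv_cancel_left] at this
  · rw [h1, h2, map_zero]

theorem trS_mul_of_mem {H : Subgroup G} {a : CA k G} (hid : a * a = a)
    (hort : ∀ h ∈ H, cj h a = a ∨ cj h a * a = 0) {a' : CA k G} (h' : a' ∈ conjs H a) :
    trS H a * a' = a' := by
  classical
  rw [trS, Finset.sum_mul, Finset.sum_eq_single a']
  · obtain ⟨h, -, rfl⟩ := mem_conjs.mp h'
    rw [← map_mul, hid]
  · intro b hb hne
    exact conjs_orth hort hb h' hne
  · intro h; exact absurd h' h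

theorem trS_idem {H : Subgroup G} {a : CA k G} (hid : a * a = a)
    (hort : ∀ h ∈ H, cj h a = a ∨ cj h a * a = 0) : trS H a * trS H a = trS H a := by
  conv_lhs => rw [trS, Finset.mul_sum]
  exact Finset.sum_congr rfl fun a' ha' => trS_mul_of_mem hid hort ha'

end conjs

/-! ### Fong–Reynolds -/

section FR

variable {N H : Subgroup G} {d : CA k G}

omit [Split k G] [Fact p.Prime] [CharP k p] in
theorem cj_mul_eq_zero_of_not_mem (hHN : H ≤ N(N)) (hd : IsBlk N d) {h : G} (hh : h ∈ H)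
    (hT : h ∉ H ⊓ stab N d) : cj h d * d = 0 := by
  apply (hd.cj_of_mem_normalizer (hHN hh)).mul_eq_zero_of_ne hd
  intro h1
  exact hT ⟨hh, hHN hh, h1⟩

omit [Split k G] [Fact p.Prime] [CharP k p] in
theorem le_inf_stab (hNH : N ≤ H) (hd : IsBlk N d) : N ≤ H ⊓ stab N d :=
  le_inf hNH fun x hx => ⟨Subgroup.le_normalizer hx, mem_fix_iff_cj.mp hd.mem.2 x hx⟩

omit [Split k G] [Fact p.Prime] [CharP k p] in
theorem mem_fix_inf_stab : d ∈ fix (H ⊓ stab N d) :=
  mem_fix_iff_cj.mpr fun _ hx => hx.2.2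

omit [Split k G] [Fact p.Prime] [CharP k p] in
/-- Conjugates of an element `c = c d = d c` fixed by the stabilizer `T` of `d` are equal or
orthogonal. -/
theorem ort_of_mul_eq (hHN : H ≤ N(N)) (hd : IsBlk N d) {c : CA k G}
    (hc : c ∈ fix (H ⊓ stab N d)) (hcd : c * d = c) (hdc : d * c = c) :
    ∀ h ∈ H, cj h c = c ∨ cj h c * c = 0 := by
  intro h hh
  by_cases hT : h ∈ H ⊓ stab N d
  · exact Or.inl (mem_fix_iff_cj.mp hc h hT)
  · right
    calc cj h c * c = cj h (c * d) * (d * c) := by rw [hcd, hdc]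
      _ = cj h c * (cj h d * d) * c := by rw [map_mul]; simp only [mul_assoc]
      _ = 0 := by rw [cj_mul_eq_zero_of_not_mem hHN hd hh hT, mul_zero, zero_mul]

omit [Split k G] [Fact p.Prime] [CharP k p] in
/-- `d z d` is supported on the stabilizer of `d`. -/
theorem mul_mul_mem_supp_stab (hNH : N ≤ H) (hHN : H ≤ N(N)) (hd : IsBlk N d) {z : CA k G}
    (hz : z ∈ supp H) : d * z * d ∈ supp (H ⊓ stab N d) := by
  have hdT : d ∈ supp (H ⊓ stab N d) := supp_mono (le_inf_stab hNH hd) hd.mem.1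
  rw [eq_sum_of z, Finset.mul_sum, Finset.sum_mul]
  refine Subalgebra.sum_mem _ fun g _ => ?_
  rw [mul_smul_comm, smul_mul_assoc]
  by_cases hg : g ∈ H
  · apply Subalgebra.smul_mem
    by_cases hT : g ∈ H ⊓ stab N d
    · exact Subalgebra.mul_mem _ (Subalgebra.mul_mem _ hdT (of_mem_supp hT)) hdT
    · have h1 : d * of g * d = d * cj g d * of g := by
        rw [cj_def]
        simp only [mul_assoc]
        rw [of_mul_of, inv_mul_cancel, of_one, mul_one]
      have h2 : d * cj g d = 0 := by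
        apply hd.mul_eq_zero_of_ne (hd.cj_of_mem_normalizer (hHN hg))
        intro h3
        exact hT ⟨hg, hHN hg, h3.symm⟩
      rw [h1, h2, zero_mul]
      exact Subalgebra.zero_mem _
  · rw [hz g hg, zero_smul]
    exact Subalgebra.zero_mem _

omit [Split k G] [Fact p.Prime] [CharP k p] in
theorem comm_of_cen_stab (hNH : N ≤ H) (hd : IsBlk N d) {c : CA k G}
    (hc : c ∈ fix (H ⊓ stab N d)) : c * d = d * c :=
  commute_of_fix_of_supp hc (supp_mono (le_inf_stab hNH hd) hd.mem.1)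

omit [Split k G] [Fact p.Prime] [CharP k p] in
theorem trS_mul_d (hNH : N ≤ H) (hHN : H ≤ N(N)) (hd : IsBlk N d) {c : CA k G}
    (hc : c ∈ fix (H ⊓ stab N d)) (hcd : c * d = c) : trS H c * d = c := by
  classical
  rw [trS, Finset.sum_mul, Finset.sum_eq_single c]
  · exact hcd
  · intro a' ha' hne
    obtain ⟨h, hh, rfl⟩ := mem_conjs.mp ha'
    have hT : h ∉ H ⊓ stab N d := fun hT => hne (mem_fix_iff_cj.mp hc h hT)
    calc cj h c * d = cj h (c * d) * d := by rw [hcd]
      _ = cj h c * (cj h d * d) := by rw [map_mul, mul_assoc]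
      _ = 0 := by rw [cj_mul_eq_zero_of_not_mem hHN hd hh hT, mul_zero]
  · intro h; exact absurd (self_mem_conjs H c) h

omit [Split k G] [Fact p.Prime] [CharP k p] in
/-- **Fong–Reynolds, 1.**  A block of the stabilizer `T` of `d` lying over `d` has as sum of its
`H`-conjugates a block of `H`. -/
theorem isBlk_trS (hNH : N ≤ H) (hHN : H ≤ N(N)) (hd : IsBlk N d) {b' : CA k G}
    (hb' : IsBlk (H ⊓ stab N d) b') (hb'd : b' * d = b') : IsBlk H (trS H b') := by
  have hdb' : d * b' = b' := by rw [← comm_of_cen_stab hNH hd hb'.mem.2, hb'd]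
  have hort := ort_of_mul_eq hHN hd hb'.mem.2 hb'd hdb'
  refine ⟨⟨trS_mem_supp (supp_mono inf_le_left hb'.mem.1), trS_mem_fix H b'⟩,
    trS_idem hb'.idem hort, ?_, ?_⟩
  · intro h0
    apply hb'.ne_zero
    rw [← trS_mul_of_mem hb'.idem hort (self_mem_conjs H b'), h0, zero_mul]
  · intro c hc hcc
    have hcd : c * d = d * c := commute_of_fix_of_supp hc.2 (supp_mono hNH hd.mem.1)
    have hc' : c * d ∈ cen (H ⊓ stab N d) := by
      refine ⟨?_, Subalgebra.mul_mem _ (fix_anti inf_le_left hc.2) mem_fix_inf_stab⟩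
      have := mul_mul_mem_supp_stab hNH hHN hd hc.1
      rwa [← hcd, mul_assoc, hd.idem] at this
    have hcc' : c * d * (c * d) = c * d := by
      rw [mul_assoc, ← mul_assoc d c d, ← hcd, mul_assoc c d d, hd.idem, ← mul_assoc, hcc]
    have hb'c : b' * (c * d) = b' * c := by
      rw [hcd, ← mul_assoc, hb'd]
    rcases hb'.prim _ hc' hcc' with h1 | h1
    · left
      rw [hb'c] at h1
      rw [trS, Finset.sum_mul]
      refine Finset.sum_congr rfl fun a' ha' => ?_
      obtain ⟨h, hh, rfl⟩ := mem_conjs.mp ha'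
      have := congrArg (cj h) h1
      rwa [map_mul, mem_fix_iff_cj.mp hc.2 h hh] at this
    · right
      rw [hb'c] at h1
      rw [trS, Finset.sum_mul]
      refine Finset.sum_eq_zero fun a' ha' => ?_
      obtain ⟨h, hh, rfl⟩ := mem_conjs.mp ha'
      have := congrArg (cj h) h1
      rwa [map_mul, mem_fix_iff_cj.mp hc.2 h hh, map_zero] at this

omit [Fact p.Prime] [CharP k p] in
/-- **Fong–Reynolds, 2.**  For a block `b` of `H` covering `d`, `b d` is a block of the stabilizer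
of `d`, and `b` is the sum of its conjugates. -/
theorem isBlk_mul_of_ne_zero (hNH : N ≤ H) (hHN : H ≤ N(N)) (hd : IsBlk N d) {b : CA k G}
    (hb : IsBlk H b) (hbd : b * d ≠ 0) :
    IsBlk (H ⊓ stab N d) (b * d) ∧ trS H (b * d) = b := by
  have hcomm : b * d = d * b := commute_of_fix_of_supp hb.mem.2 (supp_mono hNH hd.mem.1)
  have hε : b * d ∈ cen (H ⊓ stab N d) := by
    refine ⟨?_, Subalgebra.mul_mem _ (fix_anti inf_le_left hb.mem.2) mem_fix_inf_stab⟩
    have := mul_mul_mem_supp_stab hNH hHN hd hb.mem.1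
    rwa [← hcomm, mul_assoc, hd.idem] at this
  have hεε : b * d * (b * d) = b * d := by
    rw [mul_assoc, ← mul_assoc d b d, ← hcomm, mul_assoc b d d, hd.idem, ← mul_assoc, hb.idem]
  obtain ⟨b', hb', h1⟩ := exists_blk_of_idem hε hεε hbd
  have hb'd : b' * d = b' := by
    rw [← h1, mul_assoc, mul_assoc, hd.idem]
  have hb'b : b' * b = b' := by
    calc b' * b = b' * (b * d) * b := by rw [h1]
      _ = b' * (b * d) := by rw [mul_assoc, hcomm, mul_assoc d b b, hb.idem]
      _ = b' := h1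
  have hdb' : d * b' = b' := by rw [← comm_of_cen_stab hNH hd hb'.mem.2, hb'd]
  have hort := ort_of_mul_eq hHN hd hb'.mem.2 hb'd hdb'
  have hblk := isBlk_trS hNH hHN hd hb' hb'd
  have heq : trS H b' = b := by
    apply hblk.eq_of_mul_ne_zero hb
    intro h0
    apply hb'.ne_zero
    have h2 : trS H b' * b' = b' := trS_mul_of_mem hb'.idem hort (self_mem_conjs H b')
    have h3 : b * b' = b' * b :=
      commute_of_fix_of_supp hb.mem.2 (supp_mono inf_le_left hb'.mem.1)
    calc b' = trS H b' * b' := h2.symm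
      _ = trS H b' * (b * b') := by rw [h3, hb'b]
      _ = 0 := by rw [← mul_assoc, h0, zero_mul]
  have h4 : b * d = b' := by
    rw [← heq]
    exact trS_mul_d hNH hHN hd hb'.mem.2 hb'd
  rw [h4]
  exact ⟨hb', heq⟩

/-- **Fong–Reynolds, 3.**  Defect groups. -/
theorem isDefGrp_trS (hNH : N ≤ H) (hHN : H ≤ N(N)) (hd : IsBlk N d) {b' : CA k G}
    (hb' : IsBlk (H ⊓ stab N d) b') (hb'd : b' * d = b') {P : Subgroup G}
    (hP : IsDefGrp p (H ⊓ stab N d) b' P) : IsDefGrp p H (trS H b') P := by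
  classical
  have hdb' : d * b' = b' := by rw [← comm_of_cen_stab hNH hd hb'.mem.2, hb'd]
  have hort := ort_of_mul_eq hHN hd hb'.mem.2 hb'd hdb'
  have hblk := isBlk_trS hNH hHN hd hb' hb'd
  have hPH : P ≤ H := hP.le.trans inf_le_left
  refine isDefGrp_of_forall hblk hP.isPGroup hPH ?_ ?_
  · have h1 := hP.br_ne_zero hb'
    rw [← trS_mul_of_mem hb'.idem hort (self_mem_conjs H b'),
      br_mul hP.isPGroup (fix_anti hPH hblk.mem.2) (fix_anti hP.le hb'.mem.2)] at h1
    exact left_ne_zero_of_mul h1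
  · intro S hS hSH hbr
    rw [trS, br_sum_eq_sum_fixed hS _ (fun u hu a ha => cj_mem_conjs ha (hSH hu))] at hbr
    obtain ⟨a', ha', hne⟩ := Finset.exists_ne_zero_of_sum_ne_zero hbr
    rw [Finset.mem_filter] at ha'
    obtain ⟨ha'1, ha'fix⟩ := ha'
    obtain ⟨h, hh, rfl⟩ := mem_conjs.mp ha'1
    have h1 : b' ∈ fix (cjs h⁻¹ S) := by
      have := cj_mem_fix h⁻¹ ha'fix
      rwa [cj_inv_cj] at this
    have h2 : br (cjs h⁻¹ S) b' ≠ 0 := by
      have h3 := cj_br h⁻¹ S (cj h b')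
      rw [cj_inv_cj] at h3
      rw [← h3]
      intro h0
      exact hne (cj_injective h⁻¹ (by rw [h0, map_zero]))
    have hS₁H : cjs h⁻¹ S ≤ H := by
      have := cjs_mono (x := h⁻¹) hSH
      rwa [cjs_eq_of_mem_normalizer (Subgroup.le_normalizer (H.inv_mem hh))] at this
    have hS₁T : cjs h⁻¹ S ≤ H ⊓ stab N d := by
      intro u hu
      refine ⟨hS₁H hu, hHN (hS₁H hu), ?_⟩
      have h4 : cj u b' = b' := mem_fix_iff_cj.mp h1 u hu
      have h5 : b' * cj u d = b' := by
        have := congrArg (cj u) hb'd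
        rwa [map_mul, h4] at this
      apply (hd.cj_of_mem_normalizer (hHN (hS₁H hu))).eq_of_mul_ne_zero hd
      intro h0
      apply hb'.ne_zero
      rw [← hb'd, ← h5, mul_assoc, h0, mul_zero]
    obtain ⟨t, ht, hle⟩ := (hP.br_ne_zero_iff hb' (isPGroup_cjs hS _) hS₁T).mp h2
    refine ⟨h * t, H.mul_mem hh ht.1, ?_⟩
    have := cjs_mono (x := h) hle
    rwa [cjs_cjs_inv, cjs_cjs] at this

/-- **Knörr's theorem.**  If the block `b` of `H` covers the block `d` of `N ⊴ H` and `Q` is a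
defect group of `d`, some defect group `P` of `b` has `P ∩ N = Q`; moreover `P` stabilizes `d`. -/
theorem exists_isDefGrp_inf_eq (hNH : N ≤ H) (hHN : H ≤ N(N)) (hd : IsBlk N d) {b : CA k G}
    (hb : IsBlk H b) (hbd : b * d ≠ 0) {Q : Subgroup G} (hQ : IsDefGrp p N d Q) :
    ∃ P, IsDefGrp p H b P ∧ P ⊓ N = Q ∧ P ≤ stab N d := by
  obtain ⟨hb', htr⟩ := isBlk_mul_of_ne_zero hNH hHN hd hb hbd
  have hb'd : b * d * d = b * d := by rw [mul_assoc, hd.idem]
  obtain ⟨P', hP'⟩ := exists_isDefGrp (p := p) hb'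
  have hNT : N ≤ H ⊓ stab N d := le_inf_stab hNH hd
  have h1 : IsDefGrp p N d (P' ⊓ N) :=
    isDefGrp_inf_of_mul_eq hNT (inf_le_left.trans hHN) hd hb' hb'd hP'
  obtain ⟨y, hy, rfl⟩ := h1.conj hd hQ
  have h2 : IsDefGrp p (H ⊓ stab N d) (b * d) (cjs y P') := hP'.cj hb' (hNT hy)
  refine ⟨cjs y P', ?_, ?_, h2.le.trans inf_le_right⟩
  · have := isDefGrp_trS hNH hHN hd hb' hb'd h2
    rwa [htr] at this
  · rw [cjs_inf, cjs_eq_of_mem_normalizer (Subgroup.le_normalizer hy)]

end FR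

end CA

end Cfsg.Agent.BlockLib
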