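import Cfsg.Agent.BlockLib.KG.Knorr

/-!
# Consequences of Knörr's theorem
-/

set_option autoImplicit false

namespace Cfsg.Agent.BlockLib

namespace CA

universe u v

local notation "C(" P ")" => Subgroup.centralizer (SetLike.coe P)
local notation "N(" P ")" => Subgroup.normalizer (SetLike.coe P)

variable {k : Type v} [Field k] {G : Type u} [Group G] [Fintype G] [Split k G]
variable {p : ℕ} [Fact p.Prime] [CharP k p]

/-- For a defect group `P` of a block `b` of `H` and `N ⊴ H`, some `P`-stable block of `N` covered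
by `b` has defect group `P ∩ N`. -/
theorem exists_blk_isDefGrp_inf {N H : Subgroup G} (hNH : N ≤ H) (hHN : H ≤ N(N)) {b : CA k G}
    (hb : IsBlk H b) {P : Subgroup G} (hP : IsDefGrp p H b P) :
    ∃ c, IsBlk N c ∧ P ≤ stab N c ∧ b * c ≠ 0 ∧ IsDefGrp p N c (P ⊓ N) := by
  obtain ⟨d, hd, hdb⟩ := exists_blk_mul_ne_zero N hb.ne_zero
  have hbd : b * d ≠ 0 := by
    rwa [commute_of_fix_of_supp hb.mem.2 (supp_mono hNH hd.mem.1)]
  obtain ⟨Q₀, hQ₀⟩ := exists_isDefGrp (p := p) hd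
  obtain ⟨P₀, hP₀, hPN, hPs⟩ := exists_isDefGrp_inf_eq hNH hHN hd hb hbd hQ₀
  obtain ⟨x, hx, rfl⟩ := hP₀.conj hb hP
  have hxN : cjs x N = N := cjs_eq_of_mem_normalizer (hHN hx)
  refine ⟨cj x d, hd.cj_of_mem_normalizer (hHN hx), ?_, ?_, ?_⟩
  · have := cjs_mono (x := x) hPs
    rwa [← stab_cjs, hxN] at this
  · intro h0
    apply hbd
    apply cj_injective x
    rw [map_mul, mem_fix_iff_cj.mp hb.mem.2 x hx, h0, map_zero]
  · have := hQ₀.cj' hd x
    rwa [← hPN, cjs_inf, hxN] at this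

end CA

end Cfsg.Agent.BlockLib
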