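import Cfsg.Agent.BlockLib.KG.NilTr

/-!
# Nilpotent blocks: control of fusion, centralizers
-/

set_option autoImplicit false

namespace Cfsg.Agent.BlockLib

open Cfsg Cfsg.Agent.CharLib

universe u v

local notation "C(" P ")" => Subgroup.centralizer (SetLike.coe P)
local notation "N(" P ")" => Subgroup.normalizer (SetLike.coe P)

namespace CA

variable {k : Type v} [Field k] {G : Type u} [Group G] [Fintype G] [Split k G]
variable {p : ℕ} [Fact p.Prime] [CharP k p]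

omit [Fintype G] in
theorem conj_eq_of_inv_mul_mem {Q : Subgroup G} {u g : G} (h : u⁻¹ * g ∈ C(Q)) {q : G}
    (hq : q ∈ Q) : g * q * g⁻¹ = u * q * u⁻¹ := by
  have h1 := (Subgroup.mem_centralizer_iff.mp h) q hq
  have h2 : (u⁻¹ * g) * q * (u⁻¹ * g)⁻¹ = q := by rw [← h1]; group
  calc g * q * g⁻¹ = u * ((u⁻¹ * g) * q * (u⁻¹ * g)⁻¹) * u⁻¹ := by group
    _ = u * q * u⁻¹ := by rw [h2]

omit [Fintype G] in
theorem inv_mul_mem_of_conj_eq {Q : Subgroup G} {u g : G}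
    (h : ∀ q ∈ Q, g * q * g⁻¹ = u * q * u⁻¹) : u⁻¹ * g ∈ C(Q) := by
  rw [Subgroup.mem_centralizer_iff]
  intro q hq
  have h1 := h q hq
  calc q * (u⁻¹ * g) = u⁻¹ * (u * q * u⁻¹) * g := by group
    _ = u⁻¹ * g * q := by rw [← h1]; group

theorem IsMaxBP.isNilBlk_iff_control {b e : CA k G} {P : Subgroup G} (h : IsMaxBP p b P e) :
    IsNilBlk p b ↔ ∀ (Q : Subgroup G) (f : CA k G) (g : G), SubLE p (Q, f) (P, e) →
      SubLE p (cjs g Q, cj g f) (P, e) → ∃ u ∈ P, u⁻¹ * g ∈ C(Q) := by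
  constructor
  · intro hn
    exact hn.control h
  · intro hc
    refine ⟨h.1.2.1, fun Q f hQf x hx hreg => ?_⟩
    obtain ⟨y, hy⟩ := h.exists_conj_subLE hQf
    have hx' : y * x * y⁻¹ ∈ stab (cjs y Q) (cj y f) := by
      rw [stab_cjs, mem_cjs]
      simpa [mul_assoc] using hx
    have h1 : SubLE p (cjs (y * x * y⁻¹) (cjs y Q), cj (y * x * y⁻¹) (cj y f)) (P, e) := by
      rw [cjs_eq_of_mem_normalizer hx'.1, hx'.2]
      exact hy
    obtain ⟨u, hu, huc⟩ := hc _ _ _ hy h1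
    obtain ⟨a, ha⟩ := h.1.1.1 ⟨u, hu⟩
    have ha' : u ^ (p ^ a) = 1 := congrArg Subtype.val ha
    have hreg' : ¬ p ∣ orderOf (y * x * y⁻¹) := by
      have : orderOf (y * x * y⁻¹) = orderOf x :=
        orderOf_injective (MulAut.conj y).toMonoidHom (MulAut.conj y).injective x
      rwa [this]
    have h2 := GrpAux.mem_centralizer_of_conj_eq hx'.1 hreg' ha'
      (fun q hq => conj_eq_of_inv_mul_mem huc hq)
    have h3 := mem_centralizer_cjs.mp h2
    simpa [mul_assoc] using h3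

theorem IsNilBlk.isDefGrp_centralizer {b e f : CA k G} {P Q : Subgroup G} (hn : IsNilBlk p b)
    (h : IsMaxBP p b P e) (hle : SubLE p (Q, f) (P, e)) : IsDefGrp p C(Q) f (P ⊓ C(Q)) := by
  have hQf : IsBP p Q f := hle.isBP h.1.1
  rw [h.isDefGrp_inf_iff hle (centralizer_le_stab hQf.2.mem) hQf.2]
  intro g hg
  obtain ⟨u, hu, huc⟩ := hn.control h Q f g hle hg
  have h1 : cjs g C(Q) = cjs u C(Q) := by
    have : g = u * (u⁻¹ * g) := by group
    rw [this, ← cjs_cjs, cjs_eq_of_mem_normalizer (Subgroup.le_normalizer huc)]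
  have h2 : P ⊓ cjs u C(Q) = cjs u (P ⊓ C(Q)) := by
    rw [cjs_inf, cjs_eq_of_mem_normalizer (Subgroup.le_normalizer hu)]
  rw [h1, h2, card_cjs]

/-- The blocks occurring in the Brauer pairs of a nilpotent block are nilpotent. -/
theorem IsNilBlk.res_centralizer {b f : CA k G} {Q : Subgroup G} (hn : IsNilBlk p b)
    (hQf : IsBPOf p b Q f) [Fintype C(Q)] [Split k C(Q)] : IsNilBlk p (res C(Q) f) := by
  refine ⟨isBlk_res _ hQf.1.2, fun R' h' hR' x' hx' hreg => ?_⟩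
  have hf : ext0 C(Q) (res C(Q) f) = f := ext0_res _ hQf.1.2.mem.1
  have hRH : up C(Q) R' ≤ C(Q) := up_le R'
  have hRN : up C(Q) R' ≤ N(Q) := hRH.trans (centralizer_le_normalizer' Q)
  have hpg : IsPGroup p (Q ⊔ up C(Q) R' : Subgroup G) := by
    rw [sup_comm]
    exact IsPGroup.to_sup_of_normal_right' (isPGroup_up_iff.mpr hR'.1.1) hQf.1.1 hRN
  have hblk : IsBlk C(Q ⊔ up C(Q) R') (ext0 C(Q) h') := by
    rw [centralizer_sup, ← up_centralizer]
    exact (isBlk_ext0_up_iff _).mpr hR'.1.2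
  have hst : Q ⊔ up C(Q) R' ≤ stab Q f :=
    sup_le (le_stab_self hQf.1.2.mem.1) (hRH.trans (centralizer_le_stab hQf.1.2.mem))
  have hns : NSub p Q f (Q ⊔ up C(Q) R') (ext0 C(Q) h') := by
    refine ⟨hQf.1, ⟨hpg, hblk⟩, le_sup_left, sup_le Subgroup.le_normalizer hRN,
      fix_anti hst (mem_fix_stab Q f), ?_⟩
    rw [br_sup_of_mem_supp _ hQf.1.2.mem.1]
    conv_lhs => rw [← hf]
    rw [← ext0_br, ← map_mul, hR'.2.2]
  have hof := hns.isBPOf_of hQf
  have hxs : (x' : G) ∈ stab (Q ⊔ up C(Q) R') (ext0 C(Q) h') := by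
    refine ⟨mem_normalizer_of_cjs_eq ?_, ?_⟩
    · rw [cjs_sup, cjs_eq_of_mem_normalizer (centralizer_le_normalizer' Q x'.2),
        cjs_eq_of_mem_normalizer (coe_mem_normalizer_up.mpr hx'.1)]
    · rw [← ext0_cj, hx'.2]
  have h1 := hn.2 _ _ hof _ hxs (by rwa [Subgroup.orderOf_coe])
  rw [centralizer_sup] at h1
  exact coe_mem_centralizer_up.mp h1.2

end CA

end Cfsg.Agent.BlockLib
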