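import Cfsg.Agent.BlockLib.KG.LiftIdem
import Cfsg.Agent.BlockLib.KG.FusTr

/-!
# The stabilizer of a Brauer pair: translation
-/

set_option autoImplicit false

namespace Cfsg.Agent.BlockLib

open Cfsg Cfsg.Agent.CharLib

universe u v

local notation "C(" P ")" => Subgroup.centralizer (SetLike.coe P)
local notation "N(" P ")" => Subgroup.normalizer (SetLike.coe P)

namespace CA

variable {k : Type u} {G : Type v} [Field k] [Group G] [Fintype G]
variable {p : ℕ} [Fact p.Prime] [CharP k p] [Split k G]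

theorem IsBP.isBlk_of_le {Q : Subgroup G} {f : CA k G} (h : IsBP p Q f) {T : Subgroup G}
    (hQT : Q ≤ T) (hCT : C(Q) ≤ T) (hT : T ≤ stab Q f) : IsBlk T f :=
  IsBlk.of_fix h.1 hQT (hT.trans (stab_le_normalizer Q f)) hCT h.2
    (fix_anti hT (mem_fix_stab Q f))

theorem IsBP.isBlk_stab {Q : Subgroup G} {f : CA k G} (h : IsBP p Q f) : IsBlk (stab Q f) f :=
  h.isBlk_of_le (le_stab_self h.2.mem.1) (centralizer_le_stab h.2.mem) le_rfl

end CA

variable {M : Ideal AlgInt} [M.IsPrime] {G : Type u} [Group G] [Fintype G]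

theorem eq_stab {Q T : Subgroup G} {f : Set (IrrCharacter C(Q))} (hf : IsPBlock M f)
    (hT : ∀ y : G, y ∈ T ↔ y ∈ N(Q) ∧ StabilizesBlock C(Q) f y) :
    T = CA.stab Q (epsS M C(Q) f) := by
  ext y
  rw [hT, CA.mem_stab, stabilizesBlock_iff hf]
  constructor
  · rintro ⟨h1, -, h2⟩; exact ⟨h1, h2⟩
  · rintro ⟨h1, h2⟩; exact ⟨h1, CA.normalizer_le_normalizer_centralizer Q h1, h2⟩

variable {p : ℕ} [Fact p.Prime] [CharP (ResField M) p]

/-- The block of the stabilizer `T` of `(Q, f)` with the idempotent of `f`. -/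
theorem exists_block_stab {Q T : Subgroup G} {f : Set (IrrCharacter C(Q))} (hQ : IsPGroup p Q)
    (hf : IsPBlock M f) (hT : ∀ y : G, y ∈ T ↔ y ∈ N(Q) ∧ StabilizesBlock C(Q) f y) :
    ∃ F : Set (IrrCharacter T), IsPBlock M F ∧
      ∀ t : T, blockCoeff F t = subgroupBlockCoeff C(Q) f t := by
  have hQf : CA.IsBP p Q (epsS M C(Q) f) := ⟨hQ, isBlk_epsS hf⟩
  have hTs := eq_stab hf hT
  apply exists_block_sub ?_ hf (fun t ht => ((hT t).mp ht).2)
  · rw [hTs]; exact hQf.isBlk_stab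
  · rw [hTs]; exact CA.centralizer_le_stab hQf.2.mem

end Cfsg.Agent.BlockLib
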