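import Cfsg.Agent.BlockLib.KG.Inertial
import Cfsg.Agent.BlockLib.KG.StabTr

/-!
# Nilpotent blocks: translation; abelian defect groups
-/

set_option autoImplicit false

namespace Cfsg.Agent.BlockLib

open Cfsg Cfsg.Agent.CharLib

universe u v

local notation "C(" P ")" => Subgroup.centralizer (SetLike.coe P)
local notation "N(" P ")" => Subgroup.normalizer (SetLike.coe P)

namespace CA

variable {k : Type v} [Field k] {G : Type u} [Group G] [Fintype G] [Split k G]
variable {p : ℕ} [Fact p.Prime] [CharP k p]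

theorem SubLE.inf_normalizer_le_stab' {Q P : Subgroup G} {f e : CA k G} (hPe : IsBP p P e)
    (h : SubLE p (Q, f) (P, e)) : stab P e ⊓ N(Q) ≤ stab Q f := by
  rintro y ⟨hy, hyN⟩
  refine ⟨hyN, ?_⟩
  have h1 := h.cj y
  simp only [cjs_eq_of_mem_normalizer hyN, cjs_eq_of_mem_normalizer hy.1, hy.2] at h1
  exact SubLE.unique hPe h1 h

theorem IsMaxBP.relIndex_of_abelian {b e f : CA k G} {P Q : Subgroup G} (h : IsMaxBP p b P e)
    (hab : P ≤ C(P)) (hle : SubLE p (Q, f) (P, e)) :
    C(Q).relIndex (stab Q f) = (stab P e ⊓ C(Q)).relIndex (stab P e ⊓ N(Q)) := by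
  have hPe : IsBP p P e := h.1.1
  have hQf : IsBP p Q f := hle.isBP hPe
  have hA := hle.inf_normalizer_le_stab' hPe
  have hT : stab Q f = (stab P e ⊓ N(Q)) ⊔ C(Q) := by
    apply le_antisymm
    · intro x hx
      obtain ⟨y, hy, c, hc, rfl⟩ := h.stab_le_of_abelian hab hle hx
      refine Subgroup.mul_mem _ (Subgroup.mem_sup_left ⟨hy, ?_⟩) (Subgroup.mem_sup_right hc)
      have := Subgroup.mul_mem _ hx.1 (Subgroup.inv_mem _ (centralizer_le_normalizer' Q hc))
      simpa using this
    · exact sup_le hA (centralizer_le_stab hQf.2.mem)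
  rw [hT, GrpAux.relIndex_sup_of_le_normalizer
    (inf_le_right.trans (normalizer_le_normalizer_centralizer Q)), ← Subgroup.inf_relIndex_right]
  congr 1
  ext x
  simp only [Subgroup.mem_inf]
  constructor
  · rintro ⟨h1, h2, -⟩; exact ⟨h2, h1⟩
  · rintro ⟨h1, h2⟩; exact ⟨h2, h1, centralizer_le_normalizer' Q h2⟩

/-- A block with abelian defect groups is nilpotent iff its inertial quotient is trivial. -/
theorem IsMaxBP.isNilBlk_iff_of_abelian {b e : CA k G} {P : Subgroup G} (h : IsMaxBP p b P e)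
    (hab : P ≤ C(P)) : IsNilBlk p b ↔ stab P e ≤ C(P) := by
  constructor
  · intro hn
    have := hn.stab_le_sup h.1 h.isDefGrp_stab
    rwa [sup_eq_right.mpr hab] at this
  · intro hs
    refine ⟨h.1.2.1, fun Q f hQf x hx _ => ?_⟩
    obtain ⟨y, hy⟩ := h.exists_conj_subLE hQf
    have hx' : y * x * y⁻¹ ∈ stab (cjs y Q) (cj y f) := by
      rw [stab_cjs, mem_cjs]
      simpa [mul_assoc] using hx
    obtain ⟨t, ht, c, hc, htc⟩ := h.stab_le_of_abelian hab hy hx'
    have h1 : y * x * y⁻¹ ∈ C(cjs y Q) := by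
      rw [htc]
      exact Subgroup.mul_mem _ (Subgroup.centralizer_le hy.le (hs ht)) hc
    have h2 := mem_centralizer_cjs.mp h1
    simpa [mul_assoc] using h2

end CA

variable {M : Ideal AlgInt} [M.IsPrime] {G : Type u} [Group G] [Fintype G]
variable {p : ℕ} [Fact p.Prime] [CharP (ResField M) p]

theorem isNilpotentBlock_iff {B : Set (IrrCharacter G)} (hB : IsPBlock M B) :
    IsNilpotentBlock p M B ↔ CA.IsNilBlk p (eps M B) := by
  constructor
  · intro h
    refine ⟨isBlk_eps hB, fun Q f hQf x hx hreg => ?_⟩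
    obtain ⟨e, he, rfl⟩ := exists_epsS_eq hQf.1.2
    exact h.2 Q e ((isBrauerPairOf_iff hB he).mpr hQf) x hx.1
      ((stabilizesBlock_iff he x).mpr ⟨CA.normalizer_le_normalizer_centralizer Q hx.1, hx.2⟩) hreg
  · intro h
    refine ⟨hB, fun Q e hQe x hx hst hreg => ?_⟩
    have he : IsPBlock M e := hQe.1.2
    exact h.2 Q _ ((isBrauerPairOf_iff hB he).mp hQe) x
      ⟨hx, ((stabilizesBlock_iff he x).mp hst).2⟩ hreg

end Cfsg.Agent.BlockLib
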