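import Cfsg.Agent.BlockLib.KG.Knorr2
import Cfsg.Agent.BlockLib.KG.GrpAux

/-!
# Block idempotents are supported on `p`-regular elements: consequences for normal subgroups of
`p`-power index
-/

set_option autoImplicit false

namespace Cfsg.Agent.BlockLib

namespace CA

universe u v

local notation "C(" P ")" => Subgroup.centralizer (SetLike.coe P)
local notation "N(" P ")" => Subgroup.normalizer (SetLike.coe P)

/-- Block idempotents of all subgroups vanish at `p`-singular elements. -/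
class PReg (k : Type v) (G : Type u) [Field k] [Group G] [Fintype G] (p : ℕ) : Prop where
  reg : ∀ (H : Subgroup G) (ε : CA k G), IsBlk H ε → ∀ g, p ∣ orderOf g → ε g = 0

variable {k : Type v} [Field k] {G : Type u} [Group G] [Fintype G] [Split k G]
variable {p : ℕ}

theorem idem_apply_eq_zero [PReg k G p] {H : Subgroup G} {c : CA k G} (hc : c ∈ cen H)
    (hcc : c * c = c) {g : G} (hg : p ∣ orderOf g) : c g = 0 := by
  have h1 : c = ∑ ε ∈ blks H, ε * c := by
    rw [← Finset.sum_mul, sum_blks, one_mul]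
  rw [h1, sum_apply]
  refine Finset.sum_eq_zero fun ε hε => ?_
  rw [mem_blks] at hε
  rcases hε.prim c hc hcc with h2 | h2
  · rw [h2]
    exact PReg.reg H ε hε g hg
  · rw [h2, zero_apply]

/-- A `T`-stable block of `N ⊴ T` is a block of `T` when the `p`-regular elements of `T` lie in
`N`. -/
theorem IsBlk.of_preg [PReg k G p] {N T : Subgroup G} (hNT : N ≤ T)
    (hreg : ∀ x ∈ T, ¬ p ∣ orderOf x → x ∈ N) {d : CA k G} (hd : IsBlk N d) (hfix : d ∈ fix T) :
    IsBlk T d where
  mem := ⟨supp_mono hNT hd.mem.1, hfix⟩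
  idem := hd.idem
  ne_zero := hd.ne_zero
  prim := fun c hc hcc => by
    apply hd.prim c ⟨?_, fix_anti hNT hc.2⟩ hcc
    intro g hg
    by_cases hgT : g ∈ T
    · exact idem_apply_eq_zero hc hcc (by
        by_contra hnd
        exact hg (hreg g hgT hnd))
    · exact hc.1 g hgT

variable [Fact p.Prime] [CharP k p]

/-- `N ⊴ T` containing the `p`-regular elements of `T`, `d` a `T`-stable block of `N`, `P` a defect
group of `d` as a block of `T`: then `T = P N` and `P ∩ N` is a defect group of `d` in `N`. -/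
theorem le_sup_of_isDefGrp_of_preg {N T : Subgroup G} (hNT : N ≤ T) (hTN : T ≤ N(N))
    (hreg : ∀ x ∈ T, ¬ p ∣ orderOf x → x ∈ N) {d : CA k G} (hd : IsBlk N d) (hdT : IsBlk T d)
    {P : Subgroup G} (hP : IsDefGrp p T d P) : T ≤ P ⊔ N ∧ IsDefGrp p N d (P ⊓ N) :=
  ⟨GrpAux.le_sup_of_nil hNT hTN hreg (not_dvd_relIndex_of_isDefGrp hNT hTN hd hdT hP),
    isDefGrp_inf_of_mul_eq hNT hTN hd hdT hd.idem hP⟩

/-- `N ≤ L` normal in `H`, the `p`-regular elements of `L` lying in `N`; if a block `b` of `H`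
covering the block `c` of `N` has a defect group inside `N`, then the stabilizer of `c` in `L` is
`N`. -/
theorem inf_stab_le_of_isDefGrp_le [PReg k G p] {N L H : Subgroup G} (hNL : N ≤ L) (hLH : L ≤ H)
    (hHN : H ≤ N(N)) (hHL : H ≤ N(L)) (hreg : ∀ x ∈ L, ¬ p ∣ orderOf x → x ∈ N) {b c : CA k G}
    (hb : IsBlk H b) (hc : IsBlk N c) (hbc : b * c ≠ 0) {D : Subgroup G}
    (hD : IsDefGrp p H b D) (hDN : D ≤ N) : L ⊓ stab N c ≤ N := by
  have hLN : L ≤ N(N) := hLH.trans hHN
  have hNT : N ≤ L ⊓ stab N c := le_inf_stab hNL hc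
  have hcT : IsBlk (L ⊓ stab N c) c :=
    hc.of_preg hNT (fun x hx => hreg x hx.1) mem_fix_inf_stab
  obtain ⟨D₁, hD₁⟩ := exists_isDefGrp (p := p) hcT
  have h1 := (le_sup_of_isDefGrp_of_preg hNT (inf_le_left.trans hLN) (fun x hx => hreg x hx.1) hc
    hcT hD₁).1
  have hc₁ : IsBlk L (trS L c) := isBlk_trS hNL hLN hc hcT hc.idem
  have hD₁' : IsDefGrp p L (trS L c) D₁ := isDefGrp_trS hNL hLN hc hcT hc.idem hD₁
  have hort := ort_of_mul_eq hLN hc hcT.mem.2 hc.idem hc.idem
  have hbc₁ : b * trS L c ≠ 0 := by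
    intro h0
    apply hbc
    rw [← trS_mul_of_mem hc.idem hort (self_mem_conjs L c), ← mul_assoc, h0, zero_mul]
  obtain ⟨P, hP, hPL, -⟩ := exists_isDefGrp_inf_eq hLH hHL hc₁ hb hbc₁ hD₁'
  obtain ⟨x, hx, rfl⟩ := hD.conj hb hP
  have h2 : cjs x D ≤ N := by
    have := cjs_mono (x := x) hDN
    rwa [cjs_eq_of_mem_normalizer (hHN hx)] at this
  have h3 : D₁ ≤ N := by
    rw [← hPL]
    exact inf_le_left.trans h2
  exact h1.trans (sup_le h3 le_rfl)

end CA

end Cfsg.Agent.BlockLib
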