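import Cfsg.Agent.BlockLib.KG.PReg
import Cfsg.Agent.BlockLib.KG.DefSubTr
import Cfsg.Agent.Lib.Helper23.MinMax

/-!
# The residue field satisfies `PReg`
-/

set_option autoImplicit false

namespace Cfsg.Agent.BlockLib

open Cfsg Cfsg.Agent.CharLib

universe u

variable {M : Ideal AlgInt} [M.IsPrime] {G : Type u} [Group G] [Fintype G]

theorem pReg_resField {p : ℕ} (hM : IsPModular p M) : CA.PReg (ResField M) G p where
  reg := by
    intro H ε hε g hg
    haveI : Fintype H := Fintype.ofFinite H
    obtain ⟨e, he, rfl⟩ := exists_epsS_eq hε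
    rw [epsS_eq_ext0]
    by_cases hgH : g ∈ H
    · rw [CA.ext0_apply_mem H _ hgH, eps, red_apply,
        Cfsg.Agent.Lib.Helper23.MinMax.blockCoeff_eq_zero_of_singular hM he
          (by rw [Subgroup.orderOf_mk]; exact hg), redS_zero]
    · exact CA.ext0_apply_not_mem H _ hgH

/-- Elements of order prime to `p` lie in a normal subgroup of `p`-power index. -/
theorem mem_of_index_pow {p : ℕ} [hp : Fact p.Prime] {N : Subgroup G} [N.Normal] {k : ℕ}
    (hN : N.index = p ^ k) {x : G} (hx : ¬ p ∣ orderOf x) : x ∈ N := by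
  apply GrpAux.mem_of_pow_mem_of_coprime (a := p ^ k) (b := orderOf x)
  · exact Nat.Coprime.pow_left _ ((Nat.Prime.coprime_iff_not_dvd hp.out).mpr hx)
  · rw [← hN]
    exact Subgroup.pow_index_mem N x
  · rw [pow_orderOf_eq_one]
    exact N.one_mem

end Cfsg.Agent.BlockLib
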