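import Cfsg.Agent.BlockLib.KG.PrinSumTr
import Cfsg.Agent.H25.Cover2
import Cfsg.Agent.CharLib.Sub

/-!
# Principal blocks: going up and down
-/

set_option autoImplicit false

namespace Cfsg.Agent.BlockLib.PrinOver

open Cfsg Cfsg.Agent.CharLib Cfsg.Agent.BlockLib Cfsg.Agent.H25
open scoped ComplexConjugate

universe u

variable {G : Type u} [Group G] [Fintype G] {p : ℕ} [Fact p.Prime] {M : Ideal AlgInt}

theorem charDegree_cast {K : Type u} [Group K] [Finite K] (χ : IrrCharacter K) :
    (charDegree (χ : K → ℂ) : ℂ) = (χ : K → ℂ) 1 := by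
  obtain ⟨m, hm⟩ := isCharacter_apply_one (isCharacter_of_irr χ.2)
  unfold charDegree
  rw [hm]
  simp

/-- **L1**: every `η ∈ B₀(H)`, `H ≥ P`, lies under some `χ ∈ B₀(G)`, of `p'`-degree if `η` is. -/
theorem exists_over (hM : IsPModular p M) (P : Sylow p G) (H : Subgroup G)
    [Fintype H] (hPH : (P : Subgroup G) ≤ H) (η : IrrCharacter H) (hη : η ∈ principalBlock M H) :
    ∃ χ ∈ principalBlock M G, classInner (fun n : H => (χ : G → ℂ) n) (η : H → ℂ) ≠ 0 ∧
      (¬ p ∣ charDegree (η : H → ℂ) → ¬ p ∣ charDegree (χ : G → ℂ)) := by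
  classical
  haveI := isPrime_of_isPModular hM
  have hMt := ne_top_of_isPModular hM
  obtain ⟨u, huR, hu, hsum⟩ := PrinSumTr.exists_unit hM P H hPH η hη
  by_contra hcon
  push Not at hcon
  have hnat : ∀ χ : IrrCharacter G, ∃ n : ℕ,
      classInner (fun n : H => (χ : G → ℂ) n) (η : H → ℂ) = n := fun χ =>
    classInner_char_nat (isCharacter_restrict (isCharacter_of_irr χ.2) H) (isCharacter_of_irr η.2)
  by_cases hp : p ∣ charDegree (η : H → ℂ)
  · -- only nonvanishing is needed
    have h0 : ∑ χ ∈ Finset.univ.filter (· ∈ principalBlock M G), (χ : G → ℂ) 1 *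
        conj (classInner (fun n : H => (χ : G → ℂ) n) (η : H → ℂ)) = 0 := by
      apply Finset.sum_eq_zero
      intro χ hχ
      have hχ' : χ ∈ principalBlock M G := (Finset.mem_filter.1 hχ).2
      by_cases hc : classInner (fun n : H => (χ : G → ℂ) n) (η : H → ℂ) = 0
      · rw [hc, map_zero, mul_zero]
      · exact absurd hp (hcon χ hχ' hc).1
    rw [h0] at hsum
    have hi0 : (H.index : ℂ) ≠ 0 := by exact_mod_cast H.index_ne_zero_of_finite
    have hu0 : u ≠ 0 := by
      rintro rfl
      exact hu (memLocalIdeal_zero hMt)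
    exact (mul_ne_zero (mul_ne_zero hi0 (irr_apply_one_ne_zero η)) hu0) hsum.symm
  · have h0 : MemLocalIdeal M (∑ χ ∈ Finset.univ.filter (· ∈ principalBlock M G), (χ : G → ℂ) 1 *
        conj (classInner (fun n : H => (χ : G → ℂ) n) (η : H → ℂ))) := by
      apply memLocalIdeal_sum
      intro χ hχ
      have hχ' : χ ∈ principalBlock M G := (Finset.mem_filter.1 hχ).2
      obtain ⟨n, hn⟩ := hnat χ
      by_cases hc : classInner (fun n : H => (χ : G → ℂ) n) (η : H → ℂ) = 0
      · rw [hc, map_zero, mul_zero]; exact memLocalIdeal_zero hMt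
      · have hd := (hcon χ hχ' hc).2
        rw [hn, Complex.conj_natCast, ← charDegree_cast]
        exact memLocalIdeal_mul_right ((memLocalIdeal_natCast_iff hM _).2 hd)
          (memLocalRing_natCast hMt n)
    rw [hsum] at h0
    have hidx : ¬ p ∣ H.index := fun hd =>
      P.not_dvd_index (hd.trans (Subgroup.index_dvd_of_le hPH))
    rcases memLocalIdeal_or_of_mul (memLocalRing_mul (memLocalRing_natCast hMt _)
        (by rw [← charDegree_cast]; exact memLocalRing_natCast hMt _)) huR h0 with h1 | h1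
    · rw [← charDegree_cast, ← Nat.cast_mul, memLocalIdeal_natCast_iff hM] at h1
      rcases (Nat.Prime.dvd_mul Fact.out).1 h1 with h2 | h2
      · exact hidx h2
      · exact hp h2
    · exact hu h1

theorem one_mem_principalBlock (hM : IsPModular p M) {K : Type u} [Group K] [Fintype K] :
    (⟨fun _ => 1, isIrrCharacter_one⟩ : IrrCharacter K) ∈ principalBlock M K :=
  SameBlock.refl' (ne_top_of_isPModular hM) _

theorem covers_principal (hM : IsPModular p M) (N : Subgroup G) [Fintype N] :
    haveI := isPrime_of_isPModular hM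
    Covers (principalBlock M G) (principalBlock M N) := by
  refine ⟨⟨fun _ => 1, isIrrCharacter_one⟩, one_mem_principalBlock hM,
    ⟨fun _ => 1, isIrrCharacter_one⟩, one_mem_principalBlock hM, ?_⟩
  have := classInner_irr_self (isIrrCharacter_one (G := N))
  show classInner (fun _ : N => (1 : ℂ)) (fun _ : N => (1 : ℂ)) ≠ 0
  rw [this]; exact one_ne_zero

/-- **L2**: `G/N` a `p`-group: characters over `B₀(N)` lie in `B₀(G)`. -/
theorem mem_principalBlock_of_over (hM : IsPModular p M) (N : Subgroup G) [N.Normal] [Fintype N]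
    (hq : IsPGroup p (G ⧸ N)) {θ : IrrCharacter N} (hθ : θ ∈ principalBlock M N)
    {η : IrrCharacter G} (h : classInner (fun n : N => (η : G → ℂ) n) (θ : N → ℂ) ≠ 0) :
    η ∈ principalBlock M G := by
  haveI := isPrime_of_isPModular hM
  have hB : IsPBlock M (blockOf M (η : G → ℂ)) := ⟨η, rfl⟩
  have h1 : Covers (blockOf M (η : G → ℂ)) (principalBlock M N) :=
    ⟨η, mem_blockOf_self η, θ, hθ, h⟩
  have h2 := covers_unique_of_supp hB isPBlock_principalBlock isPBlock_principalBlock h1
    (covers_principal hM N) (eps_mem_supp_of_pQuotient hM hq hB)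
    (eps_mem_supp_of_pQuotient hM hq isPBlock_principalBlock)
  rw [← h2]
  exact mem_blockOf_self η

/-- **L3**: constituents on a normal subgroup of characters in `B₀(G)` lie in `B₀(N)`. -/
theorem mem_principalBlock_of_under (hM : IsPModular p M) (N : Subgroup G) [hN : N.Normal]
    [Fintype N] {χ : IrrCharacter G} (hχ : χ ∈ principalBlock M G) {θ : IrrCharacter N}
    (h : classInner (fun n : N => (χ : G → ℂ) n) (θ : N → ℂ) ≠ 0) :
    θ ∈ principalBlock M N := by
  haveI := isPrime_of_isPModular hM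
  have hb₁ : IsPBlock M (blockOf M (θ : N → ℂ)) := ⟨θ, rfl⟩
  have h1 : Covers (principalBlock M G) (blockOf M (θ : N → ℂ)) :=
    ⟨χ, hχ, θ, mem_blockOf_self θ, h⟩
  obtain ⟨x, hx⟩ := exists_conjSet_eq_of_agree isPBlock_principalBlock isPBlock_principalBlock hb₁
    ((covers_principal hM N).agree isPBlock_principalBlock isPBlock_principalBlock)
    (h1.agree isPBlock_principalBlock hb₁)
  have h2 : (⟨fun _ => 1, isIrrCharacter_one⟩ : IrrCharacter N) ∈ blockOf M (θ : N → ℂ) := by
    rw [hx]
    exact ⟨⟨fun _ => 1, isIrrCharacter_one⟩, one_mem_principalBlock hM, fun _ _ _ => rfl⟩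
  exact SameBlock.symm' h2

/-- transitivity of "lying over" -/
theorem classInner_ne_zero_trans {N L : Subgroup G} [Fintype N] [Fintype L] (hNL : N ≤ L)
    {χ : IrrCharacter G} {η : IrrCharacter L} {θ : IrrCharacter N}
    (h1 : classInner (fun l : L => (χ : G → ℂ) l) (η : L → ℂ) ≠ 0)
    (h2 : classInner (fun n : N => (η : L → ℂ) (Subgroup.inclusion hNL n)) (θ : N → ℂ) ≠ 0) :
    classInner (fun n : N => (χ : G → ℂ) n) (θ : N → ℂ) ≠ 0 := by
  classical
  obtain ⟨m, hm, hm2⟩ := H2.exists_mult (isCharacter_restrict (isCharacter_of_irr χ.2) L)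
  have hnat : ∀ ψ : IrrCharacter L, ∃ n : ℕ,
      classInner (fun n : N => (ψ : L → ℂ) (Subgroup.inclusion hNL n)) (θ : N → ℂ) = n := fun ψ =>
    classInner_char_nat (isCharacter_comp (isCharacter_of_irr ψ.2) (Subgroup.inclusion hNL))
      (isCharacter_of_irr θ.2)
  choose c hc using hnat
  have e1 : (fun n : N => (χ : G → ℂ) n)
      = ∑ ψ : IrrCharacter L, (m ψ : ℂ) • (fun n : N => (ψ : L → ℂ) (Subgroup.inclusion hNL n)) := by
    funext n
    have := congrFun hm (Subgroup.inclusion hNL n)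
    simp only [Finset.sum_apply, Pi.smul_apply] at this ⊢
    rw [← this]
    rfl
  rw [e1, classInner_sum_left]
  simp only [classInner_smul_left, hc]
  have hmη : m η ≠ 0 := by
    intro h0
    apply h1
    rw [hm2 η, h0]; simp
  have hcη : c η ≠ 0 := by
    intro h0
    apply h2
    rw [hc η, h0]; simp
  have : (∑ ψ : IrrCharacter L, (m ψ : ℂ) * (c ψ : ℂ)) = ((∑ ψ : IrrCharacter L, m ψ * c ψ : ℕ) : ℂ) := by
    push_cast; rfl
  rw [this]
  have hpos : 0 < ∑ ψ : IrrCharacter L, m ψ * c ψ :=
    lt_of_lt_of_le (Nat.mul_pos (Nat.pos_of_ne_zero hmη) (Nat.pos_of_ne_zero hcη))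
      (Finset.single_le_sum (f := fun ψ => m ψ * c ψ) (fun _ _ => Nat.zero_le _) (Finset.mem_univ η))
  exact_mod_cast hpos.ne'

end Cfsg.Agent.BlockLib.PrinOver
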