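import Cfsg.Agent.BlockLib.KG.PrinOver

/-!
# Principal blocks: `N ⊴ NP`
-/

set_option autoImplicit false

namespace Cfsg.Agent.BlockLib.PrinOver

open Cfsg Cfsg.Agent.CharLib Cfsg.Agent.BlockLib Cfsg.Agent.H25
open scoped ComplexConjugate

universe u

variable {G : Type u} [Group G] [Fintype G] {p : ℕ} [Fact p.Prime] {M : Ideal AlgInt}

theorem isPGroup_quotient_sup (N : Subgroup G) [N.Normal] (P : Subgroup G) (hP : IsPGroup p P) :
    IsPGroup p (↥(N ⊔ P) ⧸ N.subgroupOf (N ⊔ P)) := by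
  let f : P →* ↥(N ⊔ P) ⧸ N.subgroupOf (N ⊔ P) :=
    (QuotientGroup.mk' (N.subgroupOf (N ⊔ P))).comp (Subgroup.inclusion le_sup_right)
  apply IsPGroup.of_surjective hP f
  intro q
  obtain ⟨l, rfl⟩ := QuotientGroup.mk_surjective q
  have hl : (l : G) ∈ ((N ⊔ P : Subgroup G) : Set G) := l.2
  rw [Subgroup.normal_mul] at hl
  obtain ⟨n, hn, x, hx, hnx⟩ := Set.mem_mul.1 hl
  refine ⟨⟨x, hx⟩, ?_⟩
  show ((Subgroup.inclusion le_sup_right ⟨x, hx⟩ : ↥(N ⊔ P)) : ↥(N ⊔ P) ⧸ N.subgroupOf (N ⊔ P)) = l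
  rw [eq_comm, QuotientGroup.eq_iff_div_mem, Subgroup.mem_subgroupOf]
  have : ((l / Subgroup.inclusion le_sup_right ⟨x, hx⟩ : ↥(N ⊔ P)) : G) = n := by
    simp only [Subgroup.coe_div, Subgroup.coe_inclusion]
    rw [← hnx]; simp
  rw [this]; exact hn

/-- characters of `NP` over `B₀(N)` lie in `B₀(NP)` -/
theorem mem_principalBlock_sup (hM : IsPModular p M) (N : Subgroup G) [N.Normal] [Fintype N]
    (P : Subgroup G) (hP : IsPGroup p P) [Fintype ↥(N ⊔ P)] {θ : IrrCharacter N}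
    (hθ : θ ∈ principalBlock M N) {η : IrrCharacter ↥(N ⊔ P)}
    (h : classInner (fun n : N => (η : ↥(N ⊔ P) → ℂ) (Subgroup.inclusion le_sup_left n))
      (θ : N → ℂ) ≠ 0) : η ∈ principalBlock M ↥(N ⊔ P) := by
  classical
  let e : N ≃* N.subgroupOf (N ⊔ P) := (Subgroup.subgroupOfEquivOfLe le_sup_left).symm
  letI : Fintype (N.subgroupOf (N ⊔ P)) := Fintype.ofFinite _
  have hθ' : mapIrr e θ ∈ principalBlock M (N.subgroupOf (N ⊔ P)) :=
    (sameBlock_equiv e (χ := fun _ => 1) (ψ := (θ : N → ℂ))).2 hθ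
  apply mem_principalBlock_of_over hM (N.subgroupOf (N ⊔ P)) (isPGroup_quotient_sup N P hP) hθ'
  intro h0
  apply h
  rw [classInner_def] at h0 ⊢
  have hcard : Nat.card (N.subgroupOf (N ⊔ P)) = Nat.card N := Nat.card_congr e.symm.toEquiv
  rw [hcard] at h0
  rw [← h0]
  congr 1
  apply Fintype.sum_equiv e.toEquiv
  intro n
  simp only [mapIrr_apply, MulEquiv.toEquiv_eq_coe, EquivLike.coe_coe, MulEquiv.symm_apply_apply]
  rfl

end Cfsg.Agent.BlockLib.PrinOver
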