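import Cfsg.Agent.BlockLib.KG.KerAv
import Cfsg.Agent.BlockLib.KG.PReg
import Cfsg.Agent.BlockLib.KG.PSum

/-!
# The sum of the coefficients of the principal block idempotent over a subgroup containing a
Sylow `p`-subgroup is nonzero
-/

set_option autoImplicit false

namespace Cfsg.Agent.BlockLib

namespace CA

universe u v

local notation "C(" P ")" => Subgroup.centralizer (SetLike.coe P)
local notation "N(" P ")" => Subgroup.normalizer (SetLike.coe P)

variable {k : Type v} [Field k] {G : Type u} [Group G] [Fintype G]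
variable {p : ℕ} [Fact p.Prime] [CharP k p]

/-- summing a `P`-fixed element over a subgroup containing `P` -/
theorem sum_subgroup_br {P H : Subgroup G} (hP : IsPGroup p P) (hPH : P ≤ H) {a : CA k G}
    (ha : a ∈ fix P) [DecidablePred (· ∈ H)] :
    ∑ h ∈ Finset.univ.filter (· ∈ H), a h = ∑ h ∈ Finset.univ.filter (· ∈ H), br P a h := by
  classical
  letI : MulAction P G := MulAction.compHom G ((MulAut.conj : G →* MulAut G).comp P.subtype)
  have hsm : ∀ (u : P) (g : G), u • g = (u : G) * g * (u : G)⁻¹ := fun u g => rfl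
  have hV : ∀ v : k, p • v = 0 := fun v => by
    rw [nsmul_eq_mul, CharP.cast_eq_zero, zero_mul]
  have key := sum_eq_sum_fixed hP hV (Finset.univ.filter (· ∈ H) : Finset G) (by
      intro u x hx
      rw [Finset.mem_filter] at hx ⊢
      refine ⟨Finset.mem_univ _, ?_⟩
      rw [hsm]
      exact H.mul_mem (H.mul_mem (hPH u.2) hx.2) (H.inv_mem (hPH u.2)))
    (fun h => a h) (by
      intro u h _
      simp only [hsm]
      rw [mem_fix.mp ha u u.2 h])
  rw [key, Finset.sum_filter]
  apply Finset.sum_congr rfl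
  intro h _
  by_cases hc : h ∈ C(P)
  · rw [br_apply_of_mem a hc, if_pos]
    intro u
    rw [hsm]
    have := Subgroup.mem_centralizer_iff.mp hc u u.2
    rw [this, mul_inv_cancel_right]
  · rw [br_apply_of_not_mem a hc, if_neg]
    intro hall
    apply hc
    rw [Subgroup.mem_centralizer_iff]
    intro u hu
    have := hall ⟨u, hu⟩
    rw [hsm] at this
    simp only at this
    rw [mul_inv_eq_iff_eq_mul] at this
    exact this

variable [Split k G]

/-- Third main theorem: the Brauer map sends the principal block to the principal block. -/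
theorem br_prin {b ε : CA k G} {P : Subgroup G} (hP : IsPGroup p P) (hb : IsPrin ⊤ b)
    (hε : IsPrin C(P) ε) : br P b = ε := by
  classical
  have hfix : ∀ K : Subgroup G, b ∈ fix K := fun K => fix_anti le_top hb.1.mem.2
  have hc : br P b ∈ cen C(P) := br_mem_cen (hfix _)
  have hcc : br P b * br P b = br P b := br_idem hP (hfix _) hb.1.idem
  have h1 : br P b = ∑ ε' ∈ blks C(P), ε' * br P b := by
    rw [← Finset.sum_mul, sum_blks, one_mul]
  rw [h1, Finset.sum_eq_single ε]
  · rw [cen_comm hε.1.mem hc]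
    exact (isBPOf_prin hP hb hε).2.2
  · intro ε' hε' hne
    rw [mem_blks] at hε'
    rcases hε'.prim _ hc hcc with h2 | h2
    · exfalso
      apply hne
      have h3 : IsBPOf p b P ε' := ⟨⟨hP, hε'⟩, hb.1, by rw [cen_comm hc hε'.mem]; exact h2⟩
      exact (IsPrin.of_isBPOf hb h3).unique hε
    · exact h2
  · intro h
    exact absurd (mem_blks.mpr hε.1) h

/-- the sum of the coefficients of the principal block idempotent over `H ≥ P`, when `C(P)` has the
normal `p`-complement `Y` -/
theorem sum_prin_ne_zero [PReg k G p] {b : CA k G} (hb : IsPrin ⊤ b) {P H Y : Subgroup G}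
    (hP : IsPGroup p P) (hPH : P ≤ H) (hYC : Y ≤ C(P)) (hYn : C(P) ≤ N(Y))
    (hY : ¬ p ∣ Nat.card Y) (hreg : ∀ x ∈ C(P), ¬ p ∣ orderOf x → x ∈ Y)
    [DecidablePred (· ∈ H)] :
    ∑ h ∈ Finset.univ.filter (· ∈ H), b h ≠ 0 := by
  classical
  have hYk : (Nat.card Y : k) ≠ 0 := by
    rw [Ne, CharP.cast_eq_zero_iff k p]; exact hY
  have hε : IsPrin C(P) (av Y : CA k G) := by
    refine ⟨IsBlk.of_preg (p := p) hYC hreg (isPrin_av hYk).1 (av_mem_fix hYn), ?_⟩
    rw [aug_av hYk]; exact one_ne_zero
  rw [sum_subgroup_br hP hPH (fix_anti le_top hb.1.mem.2), br_prin hP hb hε]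
  have e1 : ∑ h ∈ Finset.univ.filter (· ∈ H), (av Y : CA k G) h
      = ∑ h ∈ Finset.univ.filter (· ∈ H ⊓ Y), (Nat.card Y : k)⁻¹ := by
    have hsub : Finset.univ.filter (· ∈ H ⊓ Y) ⊆ Finset.univ.filter (· ∈ H) := by
      intro x hx
      rw [Finset.mem_filter] at hx ⊢
      exact ⟨Finset.mem_univ _, hx.2.1⟩
    rw [← Finset.sum_subset hsub]
    · apply Finset.sum_congr rfl
      intro x hx
      rw [Finset.mem_filter] at hx
      exact av_apply_mem hx.2.2
    · intro x hx hx'
      rw [Finset.mem_filter] at hx hx'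
      apply av_apply_not_mem
      intro hxY
      exact hx' ⟨Finset.mem_univ _, hx.2, hxY⟩
  rw [e1, Finset.sum_const, nsmul_eq_mul]
  apply mul_ne_zero _ (inv_ne_zero hYk)
  have hcard : (Finset.univ.filter (· ∈ H ⊓ Y)).card = Nat.card (H ⊓ Y : Subgroup G) := by
    rw [Nat.card_eq_fintype_card, Fintype.card_subtype]
  rw [hcard, Ne, CharP.cast_eq_zero_iff k p]
  intro hd
  exact hY (hd.trans (Subgroup.card_dvd_of_le inf_le_right))

end CA

end Cfsg.Agent.BlockLib
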