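import Cfsg.Agent.BlockLib.KG.PrinSum
import Cfsg.Agent.BlockLib.KG.PRegTr
import Cfsg.Agent.H25.BlockRes

/-!
# Characters of the principal block of `H ≥ P` lie under characters of the principal block of `G`
-/

set_option autoImplicit false

namespace Cfsg.Agent.BlockLib.PrinSumTr

open Cfsg Cfsg.Agent.CharLib Cfsg.Agent.BlockLib
open scoped ComplexConjugate

universe u

local notation "C(" P ")" => Subgroup.centralizer (SetLike.coe P)
local notation "N(" P ")" => Subgroup.normalizer (SetLike.coe P)

/-- the centralizer of a Sylow `p`-subgroup has a normal `p`-complement -/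
theorem exists_compl_centralizer_sylow {G : Type u} [Group G] [Finite G] {p : ℕ} [Fact p.Prime]
    (P : Sylow p G) :
    ∃ Y : Subgroup G, Y ≤ C((P : Subgroup G)) ∧ C((P : Subgroup G)) ≤ N(Y) ∧ ¬ p ∣ Nat.card Y ∧
      ∀ x ∈ C((P : Subgroup G)), ¬ p ∣ orderOf x → x ∈ Y := by
  classical
  set C := C((P : Subgroup G)) with hC
  obtain ⟨S⟩ : Nonempty (Sylow p C) := inferInstance
  have hSP : ∀ s : C, s ∈ (S : Subgroup C) → (s : G) ∈ (P : Subgroup G) := by
    intro s hs
    set S' : Subgroup G := (S : Subgroup C).map C.subtype with hS'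
    have hS'p : IsPGroup p S' := S.2.map _
    have hS'C : S' ≤ C := Subgroup.map_subtype_le _
    have hn : S' ≤ N((P : Subgroup G)) := hS'C.trans (Subgroup.centralizer_le_normalizer _)
    have hsup : IsPGroup p ((P : Subgroup G) ⊔ S' : Subgroup G) :=
      IsPGroup.to_sup_of_normal_left' P.2 hS'p hn
    have := P.3 hsup le_sup_left
    have h2 : S' ≤ (P : Subgroup G) := by
      rw [← this]; exact le_sup_right
    exact h2 ⟨s, hs, rfl⟩
  have hcen : Subgroup.normalizer ((S : Subgroup C) : Set C)
      ≤ Subgroup.centralizer ((S : Subgroup C) : Set C) := by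
    intro c _
    rw [Subgroup.mem_centralizer_iff]
    intro s hs
    apply Subtype.ext
    exact Subgroup.mem_centralizer_iff.mp c.2 s (hSP s hs)
  set K := (MonoidHom.transferSylow S hcen).ker with hK
  refine ⟨CA.up C K, CA.up_le K, ?_, ?_, ?_⟩
  · have h1 := CA.up_normalizer K
    rw [Subgroup.normalizer_eq_top, CA.up_top] at h1
    have h2 : C ≤ C ⊓ N(CA.up C K) := h1.le
    exact h2.trans inf_le_right
  · have h1 := MonoidHom.not_dvd_card_ker_transferSylow S hcen
    have h2 : Nat.card (CA.up C K) = Nat.card K :=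
      Subgroup.card_map_of_injective C.subtype_injective
    rw [h2]; exact h1
  · intro x hx hxp
    rw [← CA.mk_mem_iff_up hx, hK, MonoidHom.mem_ker]
    set y := MonoidHom.transferSylow S hcen ⟨x, hx⟩ with hy
    have h1 : orderOf y ∣ orderOf (⟨x, hx⟩ : C) := orderOf_map_dvd _ _
    have h2 : orderOf (⟨x, hx⟩ : C) = orderOf x := by
      rw [← Subgroup.orderOf_coe]
    obtain ⟨j, hj⟩ := IsPGroup.iff_orderOf.1 S.2 y
    rw [h2, hj] at h1
    rcases Nat.eq_zero_or_pos j with rfl | hjpos
    · simpa using hj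
    · exact absurd ((dvd_pow_self p hjpos.ne').trans h1) hxp

variable {G : Type u} [Group G] [Fintype G] {p : ℕ} [Fact p.Prime] {M : Ideal AlgInt}

/-- the sum of the coefficients of the principal block idempotent over `H ≥ P` is a unit -/
theorem not_memLocalIdeal_sum_blockCoeff (hM : IsPModular p M) (P : Sylow p G) (H : Subgroup G)
    [Fintype H] (hPH : (P : Subgroup G) ≤ H) :
    ¬ MemLocalIdeal M (∑ h : H, blockCoeff (principalBlock M G) (h : G)) := by
  classical
  haveI := isPrime_of_isPModular hM
  haveI := charP_resField hM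
  haveI : CA.PReg (ResField M) G p := pReg_resField hM
  obtain ⟨Y, hYC, hYn, hY, hreg⟩ := exists_compl_centralizer_sylow P
  have hne := CA.sum_prin_ne_zero (p := p) (isPrin_eps_principalBlock (M := M) (G := G)) P.2 hPH
    hYC hYn hY hreg
  have hR : ∀ g : G, MemLocalRing M (blockCoeff (principalBlock M G) g) :=
    fun g => memLocalRing_blockCoeff isPBlock_principalBlock g
  intro hmem
  apply hne
  have e1 : ∑ h : H, blockCoeff (principalBlock M G) (h : G)
      = ∑ h ∈ Finset.univ.filter (· ∈ H), blockCoeff (principalBlock M G) h := by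
    rw [← Finset.sum_subtype (Finset.univ.filter (· ∈ H)) (fun x => by simp)
      (fun h => blockCoeff (principalBlock M G) h)]
  rw [e1] at hmem
  rw [← redS_eq_zero_iff (memLocalRing_sum _ _ fun g _ => hR g), redS_sum _ _ fun g _ => hR g]
    at hmem
  exact hmem

open Classical in
/-- `Σ_{χ ∈ B₀(G)} χ(1) [χ_H, η] = [G:H] η(1) u` with `u` a unit, for `η ∈ B₀(H)`, `H ≥ P`. -/
theorem exists_unit (hM : IsPModular p M) (P : Sylow p G) (H : Subgroup G)
    [Fintype H] (hPH : (P : Subgroup G) ≤ H) (η : IrrCharacter H) (hη : η ∈ principalBlock M H) :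
    ∃ u : ℂ, MemLocalRing M u ∧ ¬ MemLocalIdeal M u ∧
      ∑ χ ∈ Finset.univ.filter (· ∈ principalBlock M G), (χ : G → ℂ) 1 *
        conj (classInner (fun n : H => (χ : G → ℂ) n) (η : H → ℂ))
        = (H.index : ℂ) * (η : H → ℂ) 1 * u := by
  classical
  haveI := isPrime_of_isPModular hM
  set f : H → ℂ := fun h => blockCoeff (principalBlock M G) (h : G) with hf
  have hfc : IsClassFunction H f := by
    intro g h
    have := isClassFunction_idemSet (principalBlock M G) (g : G) (h : G)
    simp only [hf, blockCoeff_eq_idemSet]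
    exact this
  have hfR : ∀ h, MemLocalRing M (f h) :=
    fun h => memLocalRing_blockCoeff isPBlock_principalBlock _
  have h1 := memLocalIdeal_omega_sub (M := M) (isClassFunction_of_irr (isIrrCharacter_one (G := H)))
    (isClassFunction_of_irr η.2) hη hfc hfR
  have h2 : omega (fun _ : H => (1 : ℂ)) f = ∑ h : H, blockCoeff (principalBlock M G) (h : G) := by
    simp [omega, hf]
  refine ⟨omega (η : H → ℂ) f, memLocalRing_omega η.2 hfc hfR, ?_, ?_⟩
  · intro h3
    apply not_memLocalIdeal_sum_blockCoeff hM P H hPH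
    rw [← h2]
    have := memLocalIdeal_add h1 h3
    rwa [sub_add_cancel] at this
  · have h4 := Cfsg.Agent.H25.BlockRes.sum_blockCoeff_mul H (principalBlock M G) (Set.toFinite _) (η : H → ℂ)
    have h5 : (Set.toFinite (principalBlock M G)).toFinset
        = Finset.univ.filter (· ∈ principalBlock M G) := by
      ext; simp
    rw [h5] at h4
    have hη1 : (η : H → ℂ) 1 ≠ 0 := irr_apply_one_ne_zero η
    have h6 : omega (η : H → ℂ) f * (η : H → ℂ) 1
        = ∑ n : H, blockCoeff (principalBlock M G) (n : G) * (η : H → ℂ) n := by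
      rw [omega, div_mul_cancel₀ _ hη1]
    have hG : (Nat.card G : ℂ) = (Nat.card H : ℂ) * (H.index : ℂ) := by
      rw [← Nat.cast_mul, Subgroup.card_mul_index]
    have hH0 : (Nat.card H : ℂ) ≠ 0 := by exact_mod_cast Nat.card_pos.ne'
    have hi0 : (H.index : ℂ) ≠ 0 := by exact_mod_cast H.index_ne_zero_of_finite
    rw [← h6, hG] at h4
    field_simp at h4
    rw [← h4]; ring

end Cfsg.Agent.BlockLib.PrinSumTr
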