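import Cfsg.Agent.BlockLib.KG.PairsTr
import Cfsg.Agent.BlockLib.KG.NormalP

/-!
# Exact support of block idempotents from the support of their reductions
-/

set_option autoImplicit false

namespace Cfsg.Agent.BlockLib

open Cfsg Cfsg.Agent.CharLib

universe u

variable {M : Ideal AlgInt} [M.IsPrime] {G : Type u} [Group G] [Fintype G]

/-- If the reduction of a block idempotent is supported on the normal subgroup `T`, so is the
block idempotent itself. -/
theorem blockCoeff_eq_zero_of_eps_mem_supp {B : Set (IrrCharacter G)} (hB : IsPBlock M B)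
    (T : Subgroup G) [T.Normal] (h : eps M B ∈ CA.supp T) {g : G} (hg : g ∉ T) :
    blockCoeff B g = 0 := by
  classical
  rw [blockCoeff_eq_idemSet]
  refine (idemSet_inAlg (M := M) T B ?_).2.2 g hg
  intro ψ hψ
  obtain ⟨f, hf⟩ : ∃ f : G → ℂ, f = fun x => if x ∈ T then idemSet B x else 0 := ⟨_, rfl⟩
  have hfc : IsClassFunction G f := by
    intro x y
    rw [hf]
    simp only
    have : y * x * y⁻¹ ∈ T ↔ x ∈ T := by
      constructor
      · intro h1
        have := ‹T.Normal›.conj_mem _ h1 y⁻¹
        simpa [mul_assoc] using this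
      · intro h1
        exact ‹T.Normal›.conj_mem _ h1 y
    rw [isClassFunction_idemSet B x y]
    simp only [this]
  have hfR : RVal M f := by
    intro x
    rw [hf]
    simp only
    split_ifs
    · exact pb_rVal hB x
    · exact memLocalRing_zero (Ideal.IsPrime.ne_top ‹_›)
  have hred : red M f = red M (idemSet B) := by
    ext x
    rw [red_apply, red_apply, hf]
    simp only
    split_ifs with hx
    · rfl
    · have := h x hx
      rw [eps_eq, red_apply] at this
      rw [this, redS_zero]
  refine ⟨f, ⟨hfc, hfR, fun x hx => by rw [hf]; simp [hx]⟩, fun χ hχ hmem => ?_⟩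
  have h1 := redS_omega_congr χ.2 hfc hfR (isClassFunction_idemSet B) (pb_rVal hB) hred
  have h2 := redS_omega_congr ψ.2 hfc hfR (isClassFunction_idemSet B) (pb_rVal hB) hred
  rw [omega_idemSet, if_pos hχ, redS_one] at h1
  rw [omega_idemSet, if_neg hψ, redS_zero] at h2
  rw [← redS_eq_iff (memLocalRing_omega χ.2 hfc hfR) (memLocalRing_omega ψ.2 hfc hfR), h1, h2]
    at hmem
  exact one_ne_zero hmem

end Cfsg.Agent.BlockLib
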